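import Cfsg.Agent.H374.EightExc
import Cfsg.Agent.ChevFast.E8
import Cfsg.Agent.FastGrp
import Cfsg.Agent.Prune
set_option linter.all false
prune_inst 0x7f00000000000000000000000000000000000000000000000000000000000000000000000000000000000000000000000000000000000000000000000000000000000000000000000000000000000000003fffffffffffffffffffffffffffbeffbdffffffff
open scoped Cfsg.Agent.FastGrp

/-!
# Elements of order 12 or 16 in `E₈(q)` and `²E₆(q)`
-/

set_option autoImplicit false
set_option linter.style.haveILetI false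

namespace Cfsg.Agent.H514.OC.Exc

open Cfsg Cfsg.Lie Cfsg.Lie.ChevalleyDatum
open Cfsg.Agent.ChevalleyStructure Cfsg.Agent.ChevalleyStructure.Elts Cfsg.Agent.ChevalleyStructure.SL2Hom
open Cfsg.Agent.ChevalleyStructure.NPerm Cfsg.Agent.Nodes.RGDChev Cfsg.Agent.OddHalf.LongSL.Chev
open Cfsg.Agent.H374.EightExcTwo Cfsg.Agent.H374.EightExcTwoRows Cfsg.Agent.H374.EightExcOddChev

/-! ### Characteristic two -/

section Two

variable {D : ChevalleyDatum} {F : Type*} [Field F]

/-- **an element of order 16** -/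
theorem exists_sixteen (hD : InList D) [CharP F 2] {w : List ℕ} {a b : ℕ} (hr : rowsOk D w = true)
    (hc : chk D w 8 a b = true) (hab : a ≠ b) (hb : b < D.nroots) (G : Subgroup (GL D.Idx F))
    (hG : el hD F w ∈ G) : ∃ x : G, orderOf x = 16 := by
  obtain ⟨k, hk⟩ := orderOf_pos (F := F) hD (el_mem_pos hD hr)
  have h4 := pow_ne_one hr hc hab hb (el hD F w) (coe_el hD w)
  have hk3 : 4 ≤ k := by
    by_contra hlt
    apply h4
    have : orderOf (el hD F w) ∣ 8 := by
      rw [hk]
      exact pow_dvd_pow 2 (show k ≤ 3 by omega)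
    exact orderOf_dvd_iff_pow_eq_one.1 this
  refine ⟨(⟨el hD F w, hG⟩ : G) ^ 2 ^ (k - 4), ?_⟩
  have h5 : orderOf (⟨el hD F w, hG⟩ : G) = 2 ^ k := by rw [Subgroup.orderOf_mk, hk]
  rw [orderOf_pow_of_dvd (pow_ne_zero _ two_ne_zero) (by rw [h5]; exact pow_dvd_pow 2 (by omega)), h5,
    Nat.pow_div (by omega) (by norm_num), show k - (k - 4) = 4 by omega]

theorem E8_two (F : Type*) [Field F] [CharP F 2] : ∃ x : ↥(chevE8.group F), orderOf x = 16 :=
  exists_sixteen (D := chevE8) (by simp [InList]) (w := [162, 141, 135, 130, 126, 123, 121, 120]) (a := 0) (b := 10)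
    (by decide +kernel) (by (delta Cfsg.Agent.ChevalleyStructure.Sparse.act Cfsg.Agent.ChevalleyStructure.Sparse.actWord Cfsg.Agent.H374.EightExcTwo.chk; rewrite [Cfsg.Agent.ChevFast.E8.chain, Cfsg.Agent.ChevFast.E8.coroot, Cfsg.Agent.ChevFast.E8.negA]; decide +kernel)) (by norm_num) (by decide +kernel) _ (el_mem_group F _ _)

theorem twE6_two (K : Type*) [Field K] [CharP K 2] (q : ℕ) : ∃ x : ↥(twistedE6 K q), orderOf x = 16 := by
  refine exists_sixteen (D := chevE6) (by simp [InList]) (w := [46, 39, 56, 36, 42, 37]) (a := 0) (b := 21)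
    (by decide +kernel) (by decide +kernel) (by norm_num) (by decide +kernel) _ ?_
  have e : (([46, 39, 56, 36, 42, 37] : List ℕ).map fun r => (r, (1 : K))) =
      [(46, 1)] ++ ([(39, 1)] ++ ([(56, 1), (36, 1 ^ q)] ++ [(42, 1), (37, 1 ^ q)])) := by simp
  rw [el, e, wordG_append, wordG_append, wordG_append]
  refine mul_mem (wordG_mem_gen K _ (Or.inl ⟨1, one_pow _, e6p2, by simp, rfl⟩))
    (mul_mem (wordG_mem_gen K _ (Or.inl ⟨1, one_pow _, e6p4, by simp, rfl⟩))
    (mul_mem (wordG_mem_gen K _ (Or.inr ⟨1, (e6p1, e6p6), by simp, rfl⟩))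
    (wordG_mem_gen K _ (Or.inr ⟨1, (e6p3, e6p5), by simp, rfl⟩))))

end Two

/-! ### Odd characteristic -/

section SL

variable {K : Type} [Field K]

/-- an element of order 4 -/
def w0 : Matrix.SpecialLinearGroup (Fin 2) K := up 1 * lo (-1) * up 1

/-- an element of order 3 -/
def u0 : Matrix.SpecialLinearGroup (Fin 2) K := up 1 * lo (-1) * (up 1 * lo (-1))

theorem w0_sq : (w0 : Matrix.SpecialLinearGroup (Fin 2) K) * w0 = -1 := by
  apply Subtype.ext
  rw [Matrix.SpecialLinearGroup.coe_neg, Matrix.SpecialLinearGroup.coe_one]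
  show ((!![1, 1; 0, 1] * !![1, 0; -1, 1] * !![1, 1; 0, 1]) * (!![1, 1; 0, 1] * !![1, 0; -1, 1] * !![1, 1; 0, 1]) :
    Matrix (Fin 2) (Fin 2) K) = _
  ext i j
  (revert i j; simp only [_root_.Fin.forall_fin_succ, _root_.Matrix.cons_mul, _root_.Nat.succ_eq_add_one, Nat.reduceAdd, _root_.Matrix.vecMul_cons, _root_.Matrix.head_cons, _root_.one_smul, _root_.Matrix.tail_cons, _root_.Matrix.empty_vecMul, _root_.add_zero, _root_.Matrix.add_cons, _root_.add_neg_cancel, _root_.zero_add, _root_.Matrix.empty_add_empty, _root_.zero_smul, _root_.Matrix.empty_mul, _root_.Equiv.symm_apply_apply, _root_.neg_smul, _root_.Matrix.neg_cons, _root_.Matrix.neg_empty, _root_.neg_add_cancel, _root_.neg_zero, _root_.Matrix.of_apply, _root_.Matrix.cons_val', _root_.Matrix.cons_val_fin_one, _root_.Matrix.neg_apply, Fin.isValue, _root_.Matrix.cons_val_zero, _root_.Matrix.cons_val_succ, _root_.IsEmpty.forall_iff, _root_.and_true, _root_.Matrix.one_apply_eq, _root_.Fin.succ_zero_eq_one, _root_.ne_eq,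 _root_.zero_ne_one, _root_.not_false_eq_true, _root_.Matrix.one_apply_ne, _root_.and_self, _root_.Fin.succ_ne_zero, _root_.neg_inj, _root_.true_and])

theorem coe_u0 : ((u0 : Matrix.SpecialLinearGroup (Fin 2) K) : Matrix (Fin 2) (Fin 2) K) = !![-1, 1; -1, 0] := by
  show ((!![1, 1; 0, 1] * !![1, 0; -1, 1]) * (!![1, 1; 0, 1] * !![1, 0; -1, 1]) : Matrix (Fin 2) (Fin 2) K) = _
  ext i j
  (revert i j; simp [_root_.Fin.forall_fin_succ])

theorem u0_cube : (u0 : Matrix.SpecialLinearGroup (Fin 2) K) ^ 3 = 1 := by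
  apply Subtype.ext
  rw [Matrix.SpecialLinearGroup.coe_pow, coe_u0, pow_succ, pow_two, Matrix.SpecialLinearGroup.coe_one]
  ext i j
  (revert i j; simp only [_root_.Fin.forall_fin_succ, _root_.Matrix.cons_mul, _root_.Nat.succ_eq_add_one, Nat.reduceAdd, _root_.Matrix.vecMul_cons, _root_.Matrix.head_cons, _root_.neg_smul, _root_.one_smul, _root_.Matrix.neg_cons, _root_.neg_neg, _root_.Matrix.neg_empty, _root_.Matrix.tail_cons, _root_.Matrix.empty_vecMul, _root_.add_zero, _root_.Matrix.add_cons, _root_.add_neg_cancel, _root_.Matrix.empty_add_empty, _root_.zero_smul, _root_.Matrix.empty_mul, _root_.Equiv.symm_apply_apply, _root_.neg_zero, _root_.zero_add, _root_.neg_add_cancel, _root_.Matrix.of_apply, _root_.Matrix.cons_val', _root_.Matrix.cons_val_fin_one, Fin.isValue, _root_.Matrix.cons_val_zero, _root_.Matrix.cons_val_succ, _root_.IsEmpty.forall_iff, _root_.and_true, _root_.Matrix.one_apply_eq, _root_.Fin.succ_zero_eq_one, _root_.ne_eq, _root_.zero_ne_one, _root_.not_false_eq_true,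 _root_.Matrix.one_apply_ne, _root_.and_self, _root_.Fin.succ_ne_zero, _root_.true_and])

end SL

section

variable {D : ChevalleyDatum} {l : ℕ} {M : CoxeterMatrix (Fin l)} (hp : IsType D l M) {K : Type} [Field K]

/-- `SL₂(K) → GL` -/
noncomputable def P (i : Fin l) : Matrix.SpecialLinearGroup (Fin 2) K →* GL D.Idx K :=
  (Subgroup.subtype _).comp (phi hp K i)

theorem P_up (i : Fin l) (t : K) : P hp i (up t) = xG hp.inList (D.simple i) t := phi_up hp K i t

theorem P_lo (i : Fin l) (t : K) : P hp i (lo t) = xG hp.inList (D.neg (D.simple i)) t := phi_lo hp K i t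

theorem P_neg_one (i : Fin l) : P hp i (-1 : Matrix.SpecialLinearGroup (Fin 2) K) = hG hp.inList (D.simple i) (-1 : K) :=
  phi_neg_one hp K i

/-- orthogonal fundamental roots -/
def chkOrth (D : ChevalleyDatum) (i j : ℕ) : Bool :=
  [D.simple i, D.neg (D.simple i)].all fun r => [D.simple j, D.neg (D.simple j)].all fun s =>
    !(Nat.beq s r) && (!(Nat.beq s (D.neg r)) && (D.commTerms r s).isEmpty)

theorem comm_xG_of_chk {i j : Fin l} (h : chkOrth D i j = true) {r s : ℕ}
    (hr : r = D.simple i ∨ r = D.neg (D.simple i)) (hs : s = D.simple j ∨ s = D.neg (D.simple j)) (t u : K) :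
    Commute (xG hp.inList r t) (xG hp.inList s u) := by
  have hr' : r < D.nroots := by
    rcases hr with rfl | rfl
    · exact simple_lt hp.inList (lt_rank hp i)
    · exact neg_lt hp.inList (simple_lt hp.inList (lt_rank hp i))
  have hs' : s < D.nroots := by
    rcases hs with rfl | rfl
    · exact simple_lt hp.inList (lt_rank hp j)
    · exact neg_lt hp.inList (simple_lt hp.inList (lt_rank hp j))
  unfold chkOrth at h
  have h1 := List.all_eq_true.1 (List.all_eq_true.1 h r (by simpa using hr)) s (by simpa using hs)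
  simp only [Bool.and_eq_true, Bool.not_eq_true', List.isEmpty_iff] at h1
  obtain ⟨h2, h3, h4⟩ := h1
  exact (commute_xG hp K hr' hs' (Nat.ne_of_beq_eq_false h2) (Nat.ne_of_beq_eq_false h3) h4 t u).symm

theorem comm_P {i j : Fin l} (h : chkOrth D i j = true) (g g' : Matrix.SpecialLinearGroup (Fin 2) K) :
    Commute (P hp i g) (P hp j g') := by
  have h1 : ∀ r, (r = D.simple i ∨ r = D.neg (D.simple i)) → ∀ t : K, Commute (xG hp.inList r t) (P hp j g') := by
    intro r hr t
    have hg' := mem_closure_SL2 g'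
    induction hg' using Subgroup.closure_induction with
    | mem y hy =>
      rcases hy with ⟨u, rfl⟩ | ⟨u, rfl⟩
      · rw [P_up]; exact comm_xG_of_chk hp h hr (Or.inl rfl) t u
      · rw [P_lo]; exact comm_xG_of_chk hp h hr (Or.inr rfl) t u
    | one => rw [map_one]; exact Commute.one_right _
    | mul a b _ _ ha hb => rw [map_mul]; exact ha.mul_right hb
    | inv a _ ha => rw [map_inv]; exact ha.inv_right
  have hg := mem_closure_SL2 g
  induction hg using Subgroup.closure_induction with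
  | mem y hy =>
    rcases hy with ⟨u, rfl⟩ | ⟨u, rfl⟩
    · rw [P_up]; exact h1 _ (Or.inl rfl) u
    · rw [P_lo]; exact h1 _ (Or.inr rfl) u
  | one => rw [map_one]; exact Commute.one_left _
  | mul a b _ _ ha hb => rw [map_mul]; exact ha.mul_left hb
  | inv a _ ha => rw [map_inv]; exact ha.inv_left

theorem P_u0_ne (i : Fin l) : P hp i (u0 : Matrix.SpecialLinearGroup (Fin 2) K) ≠ 1 := by
  intro h
  have hr := simple_lt hp.inList (lt_rank hp i)
  have hg' : SL2Hom.phi (SL2All.good_of_mem D hp.inList (D.simple i) hr) K u0 = 1 := h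
  rcases phi_eq_one _ hg' with h | h
  · have h1 := congrFun (congrFun (congrArg Subtype.val h) 0) 1
    change ((u0 : Matrix.SpecialLinearGroup (Fin 2) K) : Matrix (Fin 2) (Fin 2) K) 0 1 = _ at h1
    rw [coe_u0] at h1
    simp at h1
  · have h1 := congrFun (congrFun (congrArg Subtype.val h) 0) 1
    change ((u0 : Matrix.SpecialLinearGroup (Fin 2) K) : Matrix (Fin 2) (Fin 2) K) 0 1 = _ at h1
    rw [coe_u0, Matrix.SpecialLinearGroup.coe_neg, Matrix.SpecialLinearGroup.coe_one] at h1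
    simp at h1

theorem orderOf_u0 (i : Fin l) : orderOf (P hp i (u0 : Matrix.SpecialLinearGroup (Fin 2) K)) = 3 := by
  haveI : Fact (Nat.Prime 3) := ⟨Nat.prime_three⟩
  exact orderOf_eq_prime (by rw [← map_pow, u0_cube, map_one]) (P_u0_ne hp i)

theorem neg_one_sq' : ((-1 : Matrix.SpecialLinearGroup (Fin 2) K)) * (-1) = 1 := by simp

theorem orderOf_four {G : Type*} [Group G] {x : G} (h : x * x ≠ 1) (h4 : (x * x) * (x * x) = 1) : orderOf x = 4 := by
  haveI : Fact (Nat.Prime 2) := ⟨Nat.prime_two⟩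
  have h1 : ¬ x ^ 2 ^ 1 = 1 := by rw [pow_one, pow_two]; exact h
  have h3 : x ^ 2 ^ (1 + 1) = 1 := by
    rw [← h4, ← pow_two, ← pow_two, ← pow_mul]; norm_num
  simpa using orderOf_eq_prime_pow h1 h3

theorem orderOf_twelve {G : Type*} [Group G] {x y : G} (hx : orderOf x = 4) (hy : orderOf y = 3) (hc : Commute x y) :
    orderOf (x * y) = 12 := by
  rw [hc.orderOf_mul_eq_mul_orderOf_of_coprime (by rw [hx, hy]; norm_num), hx, hy]

end

theorem key_comm {G : Type*} [Group G] {a b c d : G} (e1 : b * c = c * b) (e2 : a * c = c * a) (e3 : a * d = d * a) :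
    a * b * a * (c * d * c) = a * c * (b * d) * (a * c) := by
  calc a * b * a * (c * d * c) = a * b * (a * c) * d * c := by group
    _ = a * b * (c * a) * d * c := by rw [e2]
    _ = a * (b * c) * (a * d) * c := by group
    _ = a * (c * b) * (d * a) * c := by rw [e1, e3]
    _ = _ := by group

theorem E8_odd (K : Type) [Field K] (h2 : (2 : K) ≠ 0) : ∃ x : ↥(chevE8.group K), orderOf x = 12 := by
  have hp : IsType chevE8 8 CoxeterMatrix.E₈ := by simp [IsType, typeList]
  let x : GL chevE8.Idx K := P hp (0 : Fin 8) w0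
  let y : GL chevE8.Idx K := P hp (1 : Fin 8) u0
  have hx : orderOf x = 4 := by
    apply orderOf_four
    · show P hp (0 : Fin 8) w0 * P hp (0 : Fin 8) w0 ≠ 1
      rw [← map_mul, w0_sq, P_neg_one]
      exact hG_neg_ne hp K h2 (0 : Fin 8) (s := chevE8.simple 2) (by decide +kernel) (Int.odd_iff.2 (by decide +kernel))
    · show P hp (0 : Fin 8) w0 * P hp (0 : Fin 8) w0 * (P hp (0 : Fin 8) w0 * P hp (0 : Fin 8) w0) = 1
      rw [← map_mul, w0_sq, ← map_mul, neg_one_sq', map_one]
  have hy : orderOf y = 3 := orderOf_u0 hp (1 : Fin 8)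
  have hc : Commute x y := comm_P hp (by (delta Cfsg.Agent.H514.OC.Exc.chkOrth; rewrite [Cfsg.Agent.ChevFast.E8.commTerms, Cfsg.Agent.ChevFast.E8.neg]; decide +kernel)) _ _
  have hm : x * y ∈ chevE8.group K := mul_mem (phi hp K (0 : Fin 8) w0).2 (phi hp K (1 : Fin 8) u0).2
  exact ⟨⟨x * y, hm⟩, by rw [Subgroup.orderOf_mk]; exact orderOf_twelve hx hy hc⟩

theorem twE6_odd {K : Type} [Field K] [Fintype K] (h2 : (2 : K) ≠ 0) {q : ℕ}
    (hK : Fintype.card K = q ^ 2) : ∃ x : ↥(twistedE6 K q), orderOf x = 12 := by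
  have hp := Cfsg.Agent.Nodes.RGDTwE6.hp
  have hqodd : Odd q := by
    have h1 : Fintype.card K % 2 = 1 := by
      refine FiniteField.odd_card_of_char_ne_two ?_
      intro h
      have : CharP K 2 := by
        rw [← h]; infer_instance
      exact h2 (by exact_mod_cast CharP.cast_eq_zero K 2)
    rw [hK] at h1
    by_contra hev
    rw [Nat.not_odd_iff_even] at hev
    have h3 : Even (q ^ 2) := hev.pow_of_ne_zero (by norm_num)
    rw [Nat.even_iff] at h3
    omega
  have hm1 : (-1 : K) ^ q = -1 := hqodd.neg_one_pow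
  obtain ⟨g1, g2⟩ := (TwE6Basic.twisted_le_iff (K := K) (q := q) (twistedE6 K q)).1 le_rfl
  have hx' : ∀ r : ℕ, ∀ t : K, xG hp.inList r t = TwE6Basic.x r t := by
    intro r t
    apply Units.ext
    rw [coe_xG]
  let x : GL chevE6.Idx K := P hp (0 : Fin 6) w0 * P hp (5 : Fin 6) w0
  let y : GL chevE6.Idx K := P hp (1 : Fin 6) u0
  have hc05 : ∀ g g' : Matrix.SpecialLinearGroup (Fin 2) K, Commute (P hp (0 : Fin 6) g) (P hp (5 : Fin 6) g') :=
    comm_P hp (by decide +kernel)
  have hxx : x * x = hG hp.inList (chevE6.simple (0 : Fin 6)) (-1 : K) * hG hp.inList (chevE6.simple (5 : Fin 6)) (-1 : K) := by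
    rw [← P_neg_one hp, ← P_neg_one hp, ← w0_sq, map_mul, map_mul]
    show P hp (0 : Fin 6) w0 * P hp (5 : Fin 6) w0 * (P hp (0 : Fin 6) w0 * P hp (5 : Fin 6) w0) = _
    have := (hc05 w0 w0).eq
    calc P hp (0 : Fin 6) w0 * P hp (5 : Fin 6) w0 * (P hp (0 : Fin 6) w0 * P hp (5 : Fin 6) w0) =
        P hp (0 : Fin 6) w0 * (P hp (5 : Fin 6) w0 * P hp (0 : Fin 6) w0) * P hp (5 : Fin 6) w0 := by group
      _ = P hp (0 : Fin 6) w0 * (P hp (0 : Fin 6) w0 * P hp (5 : Fin 6) w0) * P hp (5 : Fin 6) w0 := by rw [this]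
      _ = _ := by group
  have hs : chevE6.simple 2 < chevE6.nroots := by decide +kernel
  have hx : orderOf x = 4 := by
    apply orderOf_four
    · intro h1
      rw [hxx] at h1
      have e1 := conj_hG hp K (5 : Fin 6) hs (-1) (neg_ne_zero.2 one_ne_zero) 1
      have e2 := conj_hG hp K (0 : Fin 6) hs (-1) (neg_ne_zero.2 one_ne_zero) 1
      have c5 : chevE6.cartan (5 : Fin 6) (chevE6.simple 2) = 0 := by decide +kernel
      have c0 : chevE6.cartan (0 : Fin 6) (chevE6.simple 2) = -1 := by decide +kernel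
      rw [c5, zpow_zero, one_mul] at e1
      rw [c0, zpow_neg_one, inv_neg, inv_one, mul_one] at e2
      have h3 : xG hp.inList (chevE6.simple 2) (1 : K) = xG hp.inList (chevE6.simple 2) (-1 : K) := by
        calc xG hp.inList (chevE6.simple 2) (1 : K) =
            (hG hp.inList (chevE6.simple (0 : Fin 6)) (-1 : K) * hG hp.inList (chevE6.simple (5 : Fin 6)) (-1 : K)) *
            xG hp.inList (chevE6.simple 2) (1 : K) *
            (hG hp.inList (chevE6.simple (0 : Fin 6)) (-1 : K) * hG hp.inList (chevE6.simple (5 : Fin 6)) (-1 : K))⁻¹ := by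
              rw [h1]; simp
          _ = hG hp.inList (chevE6.simple (0 : Fin 6)) (-1 : K) * (hG hp.inList (chevE6.simple (5 : Fin 6)) (-1 : K) *
            xG hp.inList (chevE6.simple 2) (1 : K) * (hG hp.inList (chevE6.simple (5 : Fin 6)) (-1 : K))⁻¹) *
            (hG hp.inList (chevE6.simple (0 : Fin 6)) (-1 : K))⁻¹ := by group
          _ = _ := by rw [e1, e2]
      have h5 := xG_injective hp.inList hs h3
      apply h2
      linear_combination h5
    · have e1 : P hp (0 : Fin 6) (-1 : Matrix.SpecialLinearGroup (Fin 2) K) * P hp (0 : Fin 6) (-1) = 1 := by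
        rw [← map_mul, neg_one_sq', map_one]
      have e2 : P hp (5 : Fin 6) (-1 : Matrix.SpecialLinearGroup (Fin 2) K) * P hp (5 : Fin 6) (-1) = 1 := by
        rw [← map_mul, neg_one_sq', map_one]
      have e3 := (hc05 (-1) (-1)).eq
      rw [hxx, ← P_neg_one hp, ← P_neg_one hp]
      calc P hp (0 : Fin 6) (-1 : Matrix.SpecialLinearGroup (Fin 2) K) * P hp (5 : Fin 6) (-1) *
            (P hp (0 : Fin 6) (-1) * P hp (5 : Fin 6) (-1)) =
          P hp (0 : Fin 6) (-1) * (P hp (5 : Fin 6) (-1) * P hp (0 : Fin 6) (-1)) * P hp (5 : Fin 6) (-1) := by group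
        _ = P hp (0 : Fin 6) (-1) * (P hp (0 : Fin 6) (-1) * P hp (5 : Fin 6) (-1)) * P hp (5 : Fin 6) (-1) := by rw [e3]
        _ = (P hp (0 : Fin 6) (-1) * P hp (0 : Fin 6) (-1)) * (P hp (5 : Fin 6) (-1) * P hp (5 : Fin 6) (-1)) := by group
        _ = 1 := by rw [e1, e2, one_mul]
  have hy : orderOf y = 3 := orderOf_u0 hp (1 : Fin 6)
  have hc : Commute x y := Commute.mul_left (comm_P hp (by decide +kernel) _ _) (comm_P hp (by decide +kernel) _ _)
  have t1 : chevE6.simple ((1 : Fin 6) : ℕ) = 46 ∧ chevE6.neg 46 = 25 ∧ chevE6.simple ((0 : Fin 6) : ℕ) = 56 ∧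
    chevE6.neg 56 = 15 ∧ chevE6.simple ((5 : Fin 6) : ℕ) = 36 ∧ chevE6.neg 36 = 35 := by decide +kernel
  obtain ⟨t1, t2, t3, t4, t5, t6⟩ := t1
  have hym : y ∈ twistedE6 K q := by
    show P hp (1 : Fin 6) (up 1 * lo (-1) * (up 1 * lo (-1))) ∈ _
    rw [map_mul, map_mul, P_up, P_lo, t1, t2, hx', hx']
    have a1 : TwE6Basic.x 46 (1 : K) ∈ twistedE6 K q := g1 1 (one_pow _) 46 (by simp)
    have a2 : TwE6Basic.x 25 (-1 : K) ∈ twistedE6 K q := g1 (-1) hm1 25 (by simp)
    exact mul_mem (mul_mem a1 a2) (mul_mem a1 a2)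
  have hxm : x ∈ twistedE6 K q := by
    show P hp (0 : Fin 6) (up 1 * lo (-1) * up 1) * P hp (5 : Fin 6) (up 1 * lo (-1) * up 1) ∈ _
    have a1 : P hp (0 : Fin 6) (up 1) * P hp (5 : Fin 6) (up 1) ∈ twistedE6 K q := by
      rw [P_up, P_up, t3, t5, hx', hx']
      have := g2 1 (56, 36) (by simp)
      rwa [one_pow] at this
    have a2 : P hp (0 : Fin 6) (lo (-1)) * P hp (5 : Fin 6) (lo (-1)) ∈ twistedE6 K q := by
      rw [P_lo, P_lo, t3, t5, t4, t6, hx', hx']
      have := g2 (-1) (15, 35) (by simp)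
      rwa [hm1] at this
    have key := key_comm (hc05 (lo (-1)) (up 1)).eq (hc05 (up 1) (up 1)).eq (hc05 (up 1) (lo (-1))).eq
    rw [map_mul, map_mul, map_mul, map_mul]
    rw [key]
    exact mul_mem (mul_mem a1 a2) a1
  exact ⟨⟨x * y, mul_mem hxm hym⟩, by rw [Subgroup.orderOf_mk]; exact orderOf_twelve hx hy hc⟩

theorem of_equiv {S T : Type*} [Group S] [Group T] (e : S ≃* T) {n : ℕ} (h : ∃ x : T, orderOf x = n) :
    ∃ x : S, orderOf x = n := by
  obtain ⟨x, hx⟩ := h
  exact ⟨e.symm x, by rw [MulEquiv.orderOf_eq, hx]⟩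

/-- **`E₈(q)`.** -/
theorem E8 {S : Type*} [Group S] (h : IsoE8 S) : (∃ x : S, orderOf x = 12) ∨ ∃ x : S, orderOf x = 16 := by
  obtain ⟨F, _, _, ⟨e⟩⟩ := h
  by_cases h2 : (2 : F) = 0
  · have := H374.EightExc.char_two h2
    exact Or.inr (of_equiv e (E8_two F))
  · exact Or.inl (of_equiv e (E8_odd F h2))

/-- **`²E₆(q)`.** -/
theorem twE6 {S : Type*} [Group S] (h : Iso2E6 S) : (∃ x : S, orderOf x = 12) ∨ ∃ x : S, orderOf x = 16 := by
  obtain ⟨K, _, _, q, hq, hK, ⟨e⟩⟩ := h
  by_cases h2 : (2 : K) = 0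
  · have := H374.EightExc.char_two h2
    exact Or.inr (of_equiv e (twE6_two K q))
  · exact Or.inl (of_equiv e (twE6_odd h2 hK))

end Cfsg.Agent.H514.OC.Exc

private theorem dce_8fcf3725c117 : _root_.True := by
  try have : _root_.True := by simp only [_root_.Cfsg.Agent.H514.OC.Exc.P.congr_simp]
  exact _root_.True.intro
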