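import Cfsg.Agent.S1475
import Cfsg.Agent.Lib.Cores
import Cfsg.Agent.Lib.SolvableMinNormal
import Cfsg.Agent.S0033
import Cfsg.Agent.SignalizersComponents.CoprimeGen
import Cfsg.Agent.FastGrp
import Cfsg.Agent.Prune
set_option linter.all false
prune_inst 0x7f00000000000000000000000000000000000000000000000000000000000000000000000000000000000000000000000000000000000000000000000000000000000000000000000000000000000000003fffffffffffffffffffffffffffbeffbdffffffff
open scoped Cfsg.Agent.FastGrp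

-- part: H514/EppoBase
section
/-!
# Groups all of whose non-identity elements have prime-power order: basic lemmas

`EP G` abbreviates the hypothesis.  Normal subgroups, minimal normal subgroups and primes of such a
group, up to "a nonsolvable `G` with `O_2(G) = 1` has a simple normal subgroup `S` with
trivial centralizer and the same primes".  The odd order theorem enters as the hypothesis `hodd`.
-/

set_option autoImplicit false
set_option linter.style.haveILetI false
open Cfsg

namespace Cfsg.Agent.H514.Eppo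

open Subgroup

/-- Every non-identity element has prime-power order. -/
abbrev EP (G : Type*) [Group G] : Prop := ∀ g : G, g ≠ 1 → IsPrimePow (orderOf g)

variable {G : Type*} [Group G]

theorem EP.or (h : EP G) : ∀ g : G, IsPrimePow (orderOf g) ∨ g = 1 := fun g => by
  by_cases h1 : g = 1
  · exact Or.inr h1
  · exact Or.inl (h g h1)

theorem EP.of_injective {H : Type*} [Group H] (f : H →* G) (hf : Function.Injective f) (h : EP G) :
    EP H := by
  intro g hg
  rw [← orderOf_injective f hf g]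
  exact h _ (fun h1 => hg (hf (by rw [h1, map_one])))

theorem EP.subgroup (h : EP G) (H : Subgroup G) : EP H := h.of_injective H.subtype H.subtype_injective

theorem EP.of_surjective {H : Type*} [Group H] (f : G →* H) (hf : Function.Surjective f) (h : EP G) :
    EP H := by
  intro g hg
  obtain ⟨x, rfl⟩ := hf g
  have hx : x ≠ 1 := fun h1 => hg (by rw [h1, map_one])
  exact (h x hx).dvd (orderOf_map_dvd f x) (by rwa [Ne, orderOf_eq_one_iff])

theorem EP.quotient (h : EP G) (N : Subgroup G) [N.Normal] : EP (G ⧸ N) :=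
  h.of_surjective (QuotientGroup.mk' N) (QuotientGroup.mk'_surjective N)

theorem EP.prime_eq (h : EP G) {x y : G} (hc : Commute x y) {p q : ℕ} (hp : p.Prime) (hq : q.Prime)
    (hx : orderOf x = p) (hy : orderOf y = q) : p = q := by
  by_contra hne
  refine Cfsg.Agent.S1475.not_commute h.or (a := x) (b := y) ?_ ?_ ?_ hc
  · rintro rfl; rw [orderOf_one] at hx; exact hp.one_lt.ne hx
  · rintro rfl; rw [orderOf_one] at hy; exact hq.one_lt.ne hy
  · rw [hx, hy]; exact (Nat.coprime_primes hp hq).2 hne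

theorem isPGroup_of_forall [Finite G] {p : ℕ} 
    (h : ∀ (q : ℕ), q.Prime → ∀ g : G, orderOf g = q → q = p) : IsPGroup p G := by
  by_cases h1 : Nat.card G = 1
  · exact IsPGroup.of_card (n := 0) (by simpa only [_root_.pow_zero] using h1)
  · have h2 : ∀ {d : ℕ}, d.Prime → d ∣ Nat.card G → d = p := by
      intro d hd hdv
      haveI := Fact.mk hd
      obtain ⟨g, hg⟩ := exists_prime_orderOf_dvd_card' d hdv
      exact h d hd g hg
    exact IsPGroup.of_card (Nat.eq_prime_pow_of_unique_prime_dvd Nat.card_pos.ne' h2)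

/-- An element of order `p` has a `p`-group as centralizer. -/
theorem EP.centralizer [Finite G] (h : EP G) {x : G} {p : ℕ} (hp : p.Prime) (hx : orderOf x = p) :
    IsPGroup p (Subgroup.centralizer ({x} : Set G)) := by
  refine isPGroup_of_forall (fun q hq g hg => ?_)
  refine (h.prime_eq (x := x) (y := (g : G)) ?_ hp hq hx ?_).symm
  · exact (Subgroup.mem_centralizer_singleton_iff.1 g.2).symm
  · rw [Subgroup.orderOf_coe]; exact hg

/-- A power of prime order. -/
theorem exists_prime_mem [Finite G] {H : Subgroup G} (hH : H ≠ ⊥) :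
    ∃ p : ℕ, p.Prime ∧ ∃ x ∈ H, orderOf x = p := by
  have h1 : Nat.card H ≠ 1 := fun h => hH (Subgroup.card_eq_one.1 h)
  haveI := Fact.mk (Nat.minFac_prime h1)
  obtain ⟨g, hg⟩ := exists_prime_orderOf_dvd_card' (G := H) _ (Nat.minFac_dvd (Nat.card H))
  exact ⟨_, Nat.minFac_prime h1, g, g.2, by rw [Subgroup.orderOf_coe]; exact hg⟩

/-- The centralizer of a nontrivial subgroup `H` containing an element of order `p`. -/
theorem EP.centralizer_of_mem [Finite G] (h : EP G) {x : G} {p : ℕ} (hp : p.Prime) (hx : orderOf x = p)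
    {H : Subgroup G} (hxH : x ∈ H) : IsPGroup p (Subgroup.centralizer (H : Set G)) :=
  (h.centralizer hp hx).to_le (Subgroup.centralizer_le (by simpa using hxH))

theorem EP.isPGroup_of_center [Finite G] (h : EP G) {x : G} {p : ℕ} (hp : p.Prime) (hx : orderOf x = p)
    (hxZ : x ∈ Subgroup.center G) : IsPGroup p G := by
  refine isPGroup_of_forall (fun q hq g hg => ?_)
  exact (h.prime_eq (x := x) (y := g) (Subgroup.mem_center_iff.1 hxZ g).symm hp hq hx hg).symm

theorem solvable_of_isPGroup [Finite G] {p : ℕ} (hp : p.Prime) (h : IsPGroup p G) :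
    Group.IsSolvable G := by
  haveI := Fact.mk hp
  haveI := h.isNilpotent
  infer_instance

/-- A normal abelian subgroup of a nonsolvable `EP` group is a `2`-group. -/
theorem EP.normal_abelian [Finite G] (hodd : Odd (Nat.card G) → Group.IsSolvable G)
    (h : EP G) (hns : ¬ Group.IsSolvable G) (A : Subgroup G) [hA : A.Normal]
    (hab : IsMulCommutative A) : IsPGroup 2 A := by
  classical
  by_cases hAb : A = ⊥
  · subst hAb; exact IsPGroup.of_bot
  obtain ⟨p, hp, a, haA, ha⟩ := exists_prime_mem hAb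
  have hAp : IsPGroup p A := by
    refine isPGroup_of_forall (fun q hq g hg => ?_)
    refine (h.prime_eq (x := a) (y := (g : G)) ?_ hp hq ha ?_).symm
    · have := (mul_comm' (⟨a, haA⟩ : A) g)
      exact congrArg Subtype.val this
    · rw [Subgroup.orderOf_coe]; exact hg
  by_cases hp2 : p = 2
  · rw [← hp2]; exact hAp
  exfalso
  apply hns
  have heven : 2 ∣ Nat.card G := by
    by_contra hcon
    exact hns (hodd (Nat.not_even_iff_odd.1 (fun h => hcon h.two_dvd)))
  haveI : Fact (Nat.Prime 2) := ⟨Nat.prime_two⟩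
  obtain ⟨t, ht⟩ := exists_prime_orderOf_dvd_card' (G := G) 2 heven
  have hC : IsPGroup p (Subgroup.centralizer (A : Set G)) := h.centralizer_of_mem hp ha haA
  have hCs : Group.IsSolvable (Subgroup.centralizer (A : Set G)) := solvable_of_isPGroup hp hC
  -- every involution inverts `A`
  have hinv : ∀ s : G, orderOf s = 2 → ∀ b ∈ A, s * b * s⁻¹ = b⁻¹ := by
    intro s hs b hb
    have hs2 : s * s = 1 := by rw [← pow_two, ← hs]; exact pow_orderOf_eq_one s
    have hsi : s⁻¹ = s := inv_eq_of_mul_eq_one_left hs2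
    have hsb : s * b * s⁻¹ ∈ A := hA.conj_mem b hb s
    have hcomm : b * (s * b * s⁻¹) = (s * b * s⁻¹) * b :=
      congrArg Subtype.val (mul_comm' (⟨b, hb⟩ : A) ⟨_, hsb⟩)
    set c := b * (s * b * s⁻¹) with hc
    have hcA : c ∈ A := mul_mem hb hsb
    have hcs : Commute c s := by
      have h1 : s * c * s⁻¹ = c := by
        calc s * c * s⁻¹ = (s * b * s⁻¹) * (s * s * b * (s * s)⁻¹) := by rw [hc]; group
          _ = (s * b * s⁻¹) * b := by rw [hs2]; simp
          _ = c := hcomm.symm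
      show c * s = s * c
      calc c * s = (s * c * s⁻¹) * s := by rw [h1]
        _ = s * c := by group
    have hc1 : c = 1 := by
      by_contra hc1
      obtain ⟨q, hq, y, hy, hyq⟩ := exists_prime_mem (G := G) (H := Subgroup.zpowers c) (by simpa using hc1)
      have hys : Commute y s := by
        obtain ⟨k, rfl⟩ := Subgroup.mem_zpowers_iff.1 hy
        exact hcs.zpow_left k
      have h2 := h.prime_eq hys hq Nat.prime_two hyq hs
      have hyA : y ∈ A := (Subgroup.zpowers_le.2 hcA) hy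
      have h3 : q ∣ Nat.card A := by
        rw [← hyq, ← Subgroup.orderOf_mk y hyA]; exact orderOf_dvd_natCard _
      haveI := Fact.mk hp
      obtain ⟨n, hn⟩ := IsPGroup.iff_card.1 hAp
      rw [hn] at h3
      exact hp2 (((Nat.prime_dvd_prime_iff_eq hq hp).1 (hq.dvd_of_dvd_pow h3)).symm.trans h2)
    rw [hc] at hc1
    exact (inv_eq_of_mul_eq_one_right hc1).symm
  -- `t` is central modulo the centralizer
  set C := Subgroup.centralizer (A : Set G) with hCdef
  haveI hCn : C.Normal := by rw [hCdef]; infer_instance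
  have htC : t ∉ C := by
    intro htc
    haveI := Fact.mk hp
    have h3 : 2 ∣ Nat.card C := by
      rw [← ht, ← Subgroup.orderOf_mk t htc]; exact orderOf_dvd_natCard _
    obtain ⟨n, hn⟩ := IsPGroup.iff_card.1 hC
    rw [hn] at h3
    exact hp2 ((Nat.prime_dvd_prime_iff_eq Nat.prime_two hp).1 (Nat.prime_two.dvd_of_dvd_pow h3)).symm
  have hcen : (t : G ⧸ C) ∈ Subgroup.center (G ⧸ C) := by
    rw [Subgroup.mem_center_iff]
    intro g
    obtain ⟨g, rfl⟩ := QuotientGroup.mk_surjective g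
    rw [← QuotientGroup.mk_mul, ← QuotientGroup.mk_mul, QuotientGroup.eq, hCdef,
      Subgroup.mem_centralizer_iff]
    intro b hb
    have h1 : orderOf (g * t * g⁻¹) = 2 := by
      rw [← ht]
      exact orderOf_injective (MulAut.conj g : G ≃* G).toMonoidHom (MulAut.conj g).injective t
    have h2 := hinv _ h1 b hb
    have h3 := hinv t ht b⁻¹ (A.inv_mem hb)
    have hA' : b⁻¹ ∈ A := A.inv_mem hb
    -- `(g t)⁻¹ (t g) = t⁻¹ g⁻¹ t g`
    have h4 : ∀ s : G, orderOf s = 2 → ∀ b ∈ A, s⁻¹ * b * s = b⁻¹ := by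
      intro s hs b hb
      have := hinv s⁻¹ (by rw [orderOf_inv]; exact hs) b hb
      simpa only [_root_.inv_inv] using this
    have h5 : orderOf (g⁻¹ * t * g) = 2 := by
      rw [← ht]
      have := orderOf_injective (MulAut.conj g⁻¹ : G ≃* G).toMonoidHom (MulAut.conj g⁻¹).injective t
      simpa only [_root_.map_inv, _root_.MulEquiv.toMonoidHom_eq_coe, _root_.MonoidHom.coe_coe, _root_.MulAut.inv_apply, _root_.MulAut.conj_symm_apply] using this
    -- `x = (g t)⁻¹ (t g) = t⁻¹ (g⁻¹ t g)`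
    have h6 : (g * t)⁻¹ * (t * g) = t⁻¹ * (g⁻¹ * t * g) := by group
    rw [h6]
    have h7 := hinv _ h5 b hb
    have h8 := h4 t ht _ (A.inv_mem hb)
    -- x b x⁻¹ = t⁻¹ (b⁻¹) t = b
    have h9 : (t⁻¹ * (g⁻¹ * t * g)) * b * (t⁻¹ * (g⁻¹ * t * g))⁻¹ = b := by
      calc (t⁻¹ * (g⁻¹ * t * g)) * b * (t⁻¹ * (g⁻¹ * t * g))⁻¹
          = t⁻¹ * ((g⁻¹ * t * g) * b * (g⁻¹ * t * g)⁻¹) * t := by group
        _ = b := by rw [h7, h8, inv_inv]
    calc b * (t⁻¹ * (g⁻¹ * t * g))
        = ((t⁻¹ * (g⁻¹ * t * g)) * b * (t⁻¹ * (g⁻¹ * t * g))⁻¹) * (t⁻¹ * (g⁻¹ * t * g)) := by rw [h9]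
      _ = (t⁻¹ * (g⁻¹ * t * g)) * b := by group
  have htne : (t : G ⧸ C) ≠ 1 := by
    rw [Ne, QuotientGroup.eq_one_iff]; exact htC
  have hto : orderOf (t : G ⧸ C) = 2 := by
    apply orderOf_eq_prime _ htne
    rw [← QuotientGroup.mk_pow, ← ht, pow_orderOf_eq_one]; rfl
  have hQ : IsPGroup 2 (G ⧸ C) := (h.quotient C).isPGroup_of_center Nat.prime_two hto hcen
  have hQs : Group.IsSolvable (G ⧸ C) := solvable_of_isPGroup Nat.prime_two hQ
  exact Group.isSolvable_of_ker_le_range C.subtype (QuotientGroup.mk' C) (by simp)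

/-- A solvable normal subgroup of a nonsolvable `EP` group with `O_2 = 1` is trivial. -/
theorem EP.solvable_normal [Finite G] (hodd : Odd (Nat.card G) → Group.IsSolvable G)
    (h : EP G) (hns : ¬ Group.IsSolvable G) (hO : pCore 2 G = ⊥) (N : Subgroup G) [hN : N.Normal]
    (hs : Group.IsSolvable N) : N = ⊥ := by
  by_contra hne
  haveI : Nontrivial N := (Subgroup.nontrivial_iff_ne_bot N).2 hne
  obtain ⟨A, hAc, hAab, hAne⟩ :=
    Cfsg.Agent.Lib.SolvableMinNormal.exists_characteristic_abelian (G := N)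
  haveI := hAc
  haveI hB : (A.map N.subtype).Normal := ConjAct.normal_of_characteristic_of_normal
  have hBab : IsMulCommutative (A.map N.subtype) := by
    infer_instance
  have h2 : IsPGroup 2 (A.map N.subtype) := h.normal_abelian hodd hns _ hBab
  have h3 : A.map N.subtype ≤ pCore 2 G := Cfsg.Agent.Lib.Cores.le_pCore hB h2
  rw [hO, le_bot_iff, Subgroup.map_eq_bot_iff_of_injective _ N.subtype_injective] at h3
  exact hAne h3

end Cfsg.Agent.H514.Eppo
end

-- part: H514/EppoNine
section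
/-!
# Extensions of `2`-groups by groups with a noncyclic elementary abelian `3`-subgroup

In a group with all elements of prime-power order such an extension has trivial kernel; `PSL(3,4)`
has such a subgroup.
-/

set_option autoImplicit false
set_option linter.style.haveILetI false
open Cfsg

namespace Cfsg.Agent.H514.Eppo

open Subgroup

variable {G : Type*} [Group G]

/-- Two commuting elements of exponent 3 generate an elementary abelian subgroup of order
divisible by 9. -/
theorem exists_elem_nine {Q : Type*} [Group Q] [Finite Q] {a b : Q} (hab : Commute a b) (ha : a ^ 3 = 1)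
    (hb : b ^ 3 = 1) (ha1 : a ≠ 1) (hba : b ∉ Subgroup.zpowers a) :
    ∃ E : Subgroup Q, (∀ x ∈ E, ∀ y ∈ E, x * y = y * x) ∧ (∀ x ∈ E, x ^ 3 = 1) ∧ 9 ∣ Nat.card E := by
  have h3 : Fact (Nat.Prime 3) := ⟨Nat.prime_three⟩
  let E : Subgroup Q := Subgroup.closure {a, b}
  have haE : a ∈ E := Subgroup.subset_closure (by simp)
  have hbE : b ∈ E := Subgroup.subset_closure (by simp)
  have hcomm : ∀ x ∈ E, ∀ y ∈ E, x * y = y * x := by
    have h1 : ∀ x ∈ ({a, b} : Set Q), ∀ y ∈ ({a, b} : Set Q), x * y = y * x := by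
      rintro x (rfl | rfl) y (rfl | rfl)
      · rfl
      · exact hab
      · exact hab.symm
      · rfl
    intro x hx y hy
    have := (Subgroup.closure_le_centralizer_centralizer ({a, b} : Set Q)) hx
    rw [Subgroup.mem_centralizer_iff] at this
    refine (this y ?_).symm
    revert hy
    intro hy
    have h2 : E ≤ Subgroup.centralizer ({a, b} : Set Q) := by
      rw [Subgroup.closure_le]
      intro z hz
      rw [SetLike.mem_coe, Subgroup.mem_centralizer_iff]
      exact fun w hw => h1 w hw z hz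
    exact h2 hy
  have hexp : ∀ x ∈ E, x ^ 3 = 1 := by
    intro x hx
    induction hx using Subgroup.closure_induction with
    | mem x hx =>
      rcases hx with rfl | rfl
      · exact ha
      · exact hb
    | one => exact one_pow 3
    | mul x y hx hy h1 h2 =>
      have : Commute x y := hcomm x hx y hy
      rw [this.mul_pow, h1, h2, one_mul]
    | inv x hx h1 => rw [inv_pow, h1, inv_one]
  refine ⟨E, hcomm, hexp, ?_⟩
  have hE3 : IsPGroup 3 E := by
    intro x
    exact ⟨1, by
      apply Subtype.ext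
      have := hexp x x.2
      simpa only [_root_.pow_one, _root_.SubmonoidClass.coe_pow, _root_.OneMemClass.coe_one] using this⟩
  obtain ⟨k, hk⟩ := IsPGroup.iff_card.1 hE3
  have hza : Nat.card (Subgroup.zpowers a) = 3 := by
    rw [Nat.card_zpowers]
    exact orderOf_eq_prime ha ha1
  have hlt : Subgroup.zpowers a < E := by
    refine lt_of_le_of_ne (Subgroup.zpowers_le.2 haE) ?_
    intro h
    exact hba (h ▸ hbE)
  have hcard : 3 < Nat.card E := by
    rw [← hza]
    refine lt_of_le_of_ne (Nat.le_of_dvd Nat.card_pos (Subgroup.card_dvd_of_le hlt.le)) ?_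
    intro h
    exact hlt.ne (Subgroup.eq_of_le_of_card_ge hlt.le h.ge)
  have hk2 : 2 ≤ k := by
    by_contra hcon
    have : k = 0 ∨ k = 1 := by omega
    rcases this with rfl | rfl
    · rw [hk] at hcard; norm_num at hcard
    · rw [hk] at hcard; norm_num at hcard
  rw [hk]
  exact pow_dvd_pow 3 hk2

/-- A `2`-group extended by a group with such a subgroup. -/
theorem EP.eq_bot_of_nine [Finite G] (h : EP G) (N : Subgroup G) [hN : N.Normal] (hN2 : IsPGroup 2 N)
    (hE : ∃ E : Subgroup (G ⧸ N), (∀ x ∈ E, ∀ y ∈ E, x * y = y * x) ∧ (∀ x ∈ E, x ^ 3 = 1) ∧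
      9 ∣ Nat.card E) : N = ⊥ := by
  classical
  obtain ⟨E, hEc, hE3, hE9⟩ := hE
  haveI h3 : Fact (Nat.Prime 3) := ⟨Nat.prime_three⟩
  haveI h2 : Fact (Nat.Prime 2) := ⟨Nat.prime_two⟩
  let H : Subgroup G := E.comap (QuotientGroup.mk' N)
  have hHc : 9 ∣ Nat.card H := by
    refine hE9.trans ?_
    have h1 : (H.map (QuotientGroup.mk' N)) = E :=
      Subgroup.map_comap_eq_self_of_surjective (QuotientGroup.mk'_surjective N) E
    rw [← h1]
    exact Subgroup.card_map_dvd _ _
  obtain ⟨P⟩ : Nonempty (Sylow 3 H) := inferInstance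
  let A : Subgroup G := (P : Subgroup H).map H.subtype
  have hA9 : 9 ∣ Nat.card A := by
    have h1 : Nat.card A = Nat.card P := Subgroup.card_map_of_injective H.subtype_injective
    rw [h1]
    exact P.pow_dvd_card_of_pow_dvd_card (n := 2) hHc
  have hAp : IsPGroup 3 A := P.2.map _
  have hAH : A ≤ H := Subgroup.map_subtype_le _
  have hinf : ∀ x ∈ A, x ∈ N → x = 1 := by
    intro x hxA hxN
    have h1 : A ⊓ N = ⊥ := (IsPGroup.disjoint_of_ne 3 2 (by norm_num) A N hAp hN2).eq_bot
    have h2 : x ∈ A ⊓ N := ⟨hxA, hxN⟩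
    rw [h1] at h2
    exact h2
  have hAe : Cfsg.IsElementaryAbelian 3 A := by
    constructor
    · refine ⟨⟨fun x y => ?_⟩⟩
      apply Subtype.ext
      have hx : ((x : G) : G ⧸ N) ∈ E := hAH x.2
      have hy : ((y : G) : G ⧸ N) ∈ E := hAH y.2
      have h1 : (((x : G)⁻¹ * (y : G)⁻¹ * x * y : G) : G ⧸ N) = 1 := by
        have := hEc _ hx _ hy
        rw [QuotientGroup.mk_mul, QuotientGroup.mk_mul, QuotientGroup.mk_mul, QuotientGroup.mk_inv,
          QuotientGroup.mk_inv, mul_assoc, this]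
        group
      have h2 : (x : G)⁻¹ * (y : G)⁻¹ * x * y = 1 := by
        refine hinf _ ?_ ((QuotientGroup.eq_one_iff _).1 h1)
        exact mul_mem (mul_mem (mul_mem (inv_mem x.2) (inv_mem y.2)) x.2) y.2
      show (x : G) * y = y * x
      calc (x : G) * y = y * x * ((x : G)⁻¹ * (y : G)⁻¹ * x * y) := by group
        _ = y * x := by rw [h2, mul_one]
    · intro x hx
      refine hinf _ (pow_mem hx 3) ?_
      rw [← QuotientGroup.eq_one_iff, QuotientGroup.mk_pow]
      exact hE3 _ (hAH hx)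
  have hZ : ¬ 3 ∣ Nat.card N := by
    obtain ⟨k, hk⟩ := IsPGroup.iff_card.1 hN2
    rw [hk]
    intro h3
    have := (Nat.prime_dvd_prime_iff_eq Nat.prime_three Nat.prime_two).1
      (Nat.prime_three.dvd_of_dvd_pow h3)
    norm_num at this
  have hAN : A ≤ Subgroup.normalizer (N : Set G) := by
    rw [Subgroup.normalizer_eq_top (H := N)]; exact le_top
  have hA2 : 3 ^ 2 ≤ Nat.card A := Nat.le_of_dvd Nat.card_pos (by simpa only [_root_.Nat.reducePow] using hA9)
  have hgen := Cfsg.Agent.SignalizersComponents.CoprimeGen.le_iSup_centralizer_ne_one hAe hA2 hZ hAN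
  rw [eq_bot_iff]
  refine hgen.trans (iSup_le ?_)
  rintro ⟨a, haA, ha1⟩
  have ha3 : orderOf a = 3 := orderOf_eq_prime (hAe.2 a haA) ha1
  have hC : IsPGroup 3 (Subgroup.centralizer ({a} : Set G)) := h.centralizer Nat.prime_three ha3
  exact (IsPGroup.disjoint_of_ne 2 3 (by norm_num) N _ hN2 hC).le_bot

/-- Commuting elements of order 3 in `PSL(3,4)`. -/
theorem psl_three_four {F : Type*} [Field F] [Fintype F] (hF : Fintype.card F = 4) :
    ∃ E : Subgroup (Matrix.ProjectiveSpecialLinearGroup (Fin 3) F),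
      (∀ x ∈ E, ∀ y ∈ E, x * y = y * x) ∧ (∀ x ∈ E, x ^ 3 = 1) ∧ 9 ∣ Nat.card E := by
  classical
  obtain ⟨w, hw⟩ : ∃ w : Fˣ, w ≠ 1 := by
    have h1 : Fintype.card Fˣ = 3 := by rw [Fintype.card_units, hF]
    have : Nontrivial Fˣ := Fintype.one_lt_card_iff_nontrivial.1 (by rw [h1]; norm_num)
    exact exists_ne 1
  have hw3 : (w : F) ^ 3 = 1 := by
    have h1 : Fintype.card Fˣ = 3 := by rw [Fintype.card_units, hF]
    have h2 : w ^ 3 = 1 := by rw [← h1]; exact pow_card_eq_one
    have := congrArg (fun u : Fˣ => (u : F)) h2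
    simpa only [_root_.Units.val_pow_eq_pow_val, _root_.Units.val_one] using this
  have hw1 : (w : F) ≠ 1 := fun h1 => hw (Units.ext h1)
  obtain ⟨ω, hω⟩ : ∃ ω : F, ω = (w : F) := ⟨_, rfl⟩
  rw [← hω] at hw3 hw1
  have hdA : (!![1, 0, 0; 0, ω, 0; 0, 0, ω ^ 2] : Matrix (Fin 3) (Fin 3) F).det = 1 := by
    rw [Matrix.det_fin_three]
    simp only [_root_.Fin.isValue, _root_.Matrix.of_apply, _root_.Matrix.cons_val', _root_.Matrix.cons_val_zero, _root_.Matrix.cons_val_fin_one, _root_.Matrix.cons_val_one, _root_.one_mul, _root_.Matrix.cons_val, _root_.MulZeroClass.mul_zero, _root_.sub_zero, _root_.MulZeroClass.zero_mul, _root_.add_zero]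
    calc ω * ω ^ 2 = ω ^ 3 := by ring
      _ = 1 := hw3
  have hdB : (!![0, 1, 0; 0, 0, 1; 1, 0, 0] : Matrix (Fin 3) (Fin 3) F).det = 1 := by
    rw [Matrix.det_fin_three]
    simp
  let A : Matrix.SpecialLinearGroup (Fin 3) F := ⟨_, hdA⟩
  let B : Matrix.SpecialLinearGroup (Fin 3) F := ⟨_, hdB⟩
  let π : Matrix.SpecialLinearGroup (Fin 3) F →* Matrix.ProjectiveSpecialLinearGroup (Fin 3) F :=
    QuotientGroup.mk' _
  have hdZ : (!![ω, 0, 0; 0, ω, 0; 0, 0, ω] : Matrix (Fin 3) (Fin 3) F).det = 1 := by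
    rw [Matrix.det_fin_three]
    simp only [_root_.Fin.isValue, _root_.Matrix.of_apply, _root_.Matrix.cons_val', _root_.Matrix.cons_val_zero, _root_.Matrix.cons_val_fin_one, _root_.Matrix.cons_val_one, _root_.Matrix.cons_val, _root_.MulZeroClass.mul_zero, _root_.sub_zero, _root_.MulZeroClass.zero_mul, _root_.add_zero]
    calc ω * ω * ω = ω ^ 3 := by ring
      _ = 1 := hw3
  let Z : Matrix.SpecialLinearGroup (Fin 3) F := ⟨_, hdZ⟩
  have hZc : ∀ g : Matrix.SpecialLinearGroup (Fin 3) F, g * Z = Z * g := by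
    intro g
    apply Subtype.ext
    show (g : Matrix (Fin 3) (Fin 3) F) * !![ω, 0, 0; 0, ω, 0; 0, 0, ω] = !![ω, 0, 0; 0, ω, 0; 0, 0, ω] * (g : Matrix (Fin 3) (Fin 3) F)
    have h1 : (!![ω, 0, 0; 0, ω, 0; 0, 0, ω] : Matrix (Fin 3) (Fin 3) F) = ω • (1 : Matrix (Fin 3) (Fin 3) F) := by
      ext i j
      (revert i j; simp only [_root_.Fin.forall_fin_succ, _root_.Matrix.of_apply, _root_.Matrix.cons_val', _root_.Matrix.cons_val_fin_one, _root_.Matrix.smul_apply, _root_.smul_eq_mul, Fin.isValue, _root_.Matrix.cons_val_zero, _root_.Matrix.cons_val_succ, _root_.IsEmpty.forall_iff, _root_.and_true, _root_.Matrix.one_apply_eq, _root_.mul_one, Nat.reduceAdd, _root_.Fin.succ_zero_eq_one, _root_.ne_eq, _root_.zero_ne_one, _root_.not_false_eq_true, _root_.Matrix.one_apply_ne, _root_.MulZeroClass.mul_zero, _root_.Fin.succ_one_eq_two, Fin.reduceEq, _root_.and_self, _root_.Fin.succ_ne_zero, _root_.zero_eq_mul, _root_.true_and, _root_.or_true])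
    rw [h1]
    simp
  have hπZ : π Z = 1 := by
    show (QuotientGroup.mk Z : Matrix.ProjectiveSpecialLinearGroup (Fin 3) F) = 1
    rw [QuotientGroup.eq_one_iff, Subgroup.mem_center_iff]
    exact hZc
  have hA3 : A ^ 3 = 1 := by
    apply Subtype.ext
    show (!![1, 0, 0; 0, ω, 0; 0, 0, ω ^ 2] : Matrix (Fin 3) (Fin 3) F) ^ 3 = 1
    rw [pow_three]
    (refine And.elim (fun cj1 => And.elim fun cj2 => And.elim fun cj3 => And.elim fun cj4 => And.elim fun cj5 => And.elim fun cj6 => And.elim fun cj7 => And.elim fun cj8 cj9 => by ext i j; fin_cases i <;> fin_cases j; exacts [cj1, cj2, cj3, cj4, cj5, cj6, cj7, cj8, cj9]) ?_; simp [Matrix.mul_apply, Fin.sum_univ_three] <;> and_intros)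
    · calc ω * (ω * ω) = ω ^ 3 := by ring
        _ = 1 := hw3
    · calc ω ^ 2 * (ω ^ 2 * ω ^ 2) = (ω ^ 3) ^ 2 := by ring
        _ = 1 := by rw [hw3, one_pow]
  have hB3 : B ^ 3 = 1 := by
    apply Subtype.ext
    show (!![0, 1, 0; 0, 0, 1; 1, 0, 0] : Matrix (Fin 3) (Fin 3) F) ^ 3 = 1
    rw [pow_three]
    ext i j
    (revert i j; simp only [Matrix.mul_apply, Fin.sum_univ_three, _root_.Fin.forall_fin_succ, _root_.Matrix.cons_mul, _root_.Nat.succ_eq_add_one, Nat.reduceAdd, _root_.Matrix.vecMul_cons, _root_.Matrix.head_cons, _root_.zero_smul, _root_.Matrix.tail_cons, _root_.one_smul, _root_.Matrix.empty_vecMul, _root_.add_zero, _root_.zero_add, _root_.Matrix.empty_mul, _root_.Equiv.symm_apply_apply, _root_.Matrix.of_apply, _root_.Matrix.cons_val', _root_.Matrix.cons_val_fin_one, Fin.isValue, _root_.Matrix.cons_val_zero, _root_.Matrix.cons_val_one, _root_.Matrix.cons_val, _root_.MulZeroClass.mul_zero, _root_.mul_one, _root_.Matrix.cons_val_succ, _root_.IsEmpty.forall_iff,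 _root_.and_true, _root_.Matrix.one_apply_eq, _root_.Fin.succ_zero_eq_one, _root_.ne_eq, _root_.zero_ne_one, _root_.not_false_eq_true, _root_.Matrix.one_apply_ne, _root_.Fin.succ_one_eq_two, Fin.reduceEq, _root_.and_self, _root_.Fin.succ_ne_zero, _root_.true_and])
  have hBA : B * A = Z * (A * B) := by
    apply Subtype.ext
    show (!![0, 1, 0; 0, 0, 1; 1, 0, 0] : Matrix (Fin 3) (Fin 3) F) * !![1, 0, 0; 0, ω, 0; 0, 0, ω ^ 2] =
      !![ω, 0, 0; 0, ω, 0; 0, 0, ω] * (!![1, 0, 0; 0, ω, 0; 0, 0, ω ^ 2] * !![0, 1, 0; 0, 0, 1; 1, 0, 0])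
    (refine And.elim (fun cj1 => And.elim fun cj2 => And.elim fun cj3 => And.elim fun cj4 => And.elim fun cj5 => And.elim fun cj6 => And.elim fun cj7 => And.elim fun cj8 cj9 => by ext i j; fin_cases i <;> fin_cases j; exacts [cj1, cj2, cj3, cj4, cj5, cj6, cj7, cj8, cj9]) ?_; simp [Matrix.mul_apply, Fin.sum_univ_three] <;> and_intros)
    · ring
    · calc (1 : F) = ω ^ 3 := hw3.symm
        _ = ω * ω ^ 2 := by ring
  have hne : ¬ A * B = B * A := by
    intro h1
    have h2 := congrArg (fun g : Matrix.SpecialLinearGroup (Fin 3) F => (g : Matrix (Fin 3) (Fin 3) F) 0 1) h1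
    have h3 : ((A * B : Matrix.SpecialLinearGroup (Fin 3) F) : Matrix (Fin 3) (Fin 3) F) 0 1 = 1 := by
      show ((!![1, 0, 0; 0, ω, 0; 0, 0, ω ^ 2] : Matrix (Fin 3) (Fin 3) F) *
        (!![0, 1, 0; 0, 0, 1; 1, 0, 0] : Matrix (Fin 3) (Fin 3) F) : Matrix (Fin 3) (Fin 3) F) 0 1 = 1
      simp [Matrix.mul_apply, Fin.sum_univ_three]
    have h4 : ((B * A : Matrix.SpecialLinearGroup (Fin 3) F) : Matrix (Fin 3) (Fin 3) F) 0 1 = ω := by
      show ((!![0, 1, 0; 0, 0, 1; 1, 0, 0] : Matrix (Fin 3) (Fin 3) F) *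
        (!![1, 0, 0; 0, ω, 0; 0, 0, ω ^ 2] : Matrix (Fin 3) (Fin 3) F) : Matrix (Fin 3) (Fin 3) F) 0 1 = ω
      simp [Matrix.mul_apply, Fin.sum_univ_three]
    exact hw1 (h4.symm.trans (h2.symm.trans h3))
  have hcen : ∀ X Y g : Matrix.SpecialLinearGroup (Fin 3) F, π X = π Y → g * (X⁻¹ * Y) = (X⁻¹ * Y) * g := by
    intro X Y g h1
    have h2 : π (X⁻¹ * Y) = 1 := by rw [map_mul, map_inv, h1, inv_mul_cancel]
    have h3 : (X⁻¹ * Y) ∈ Subgroup.center (Matrix.SpecialLinearGroup (Fin 3) F) :=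
      (QuotientGroup.eq_one_iff _).1 h2
    exact Subgroup.mem_center_iff.1 h3 g
  refine exists_elem_nine (a := π A) (b := π B) ?_ ?_ ?_ ?_ ?_
  · show π A * π B = π B * π A
    rw [← map_mul, ← map_mul, hBA, map_mul π Z, hπZ, one_mul]
  · rw [← map_pow, hA3, map_one]
  · rw [← map_pow, hB3, map_one]
  · intro h1
    have h2 := hcen 1 A B (by rw [h1, map_one])
    apply hne
    simpa only [_root_.inv_one, _root_.one_mul] using h2.symm
  · intro h1
    obtain ⟨k, hk⟩ := Subgroup.mem_zpowers_iff.1 h1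
    have h2 := hcen (A ^ k) B A (by rw [map_zpow]; exact hk)
    apply hne
    have h3 : A * (A ^ k)⁻¹ = (A ^ k)⁻¹ * A := by group
    have h4 : (A ^ k)⁻¹ * (A * B) = (A ^ k)⁻¹ * (B * A) := by
      rw [← mul_assoc, ← h3, mul_assoc, h2, mul_assoc]
    exact mul_left_cancel h4

end Cfsg.Agent.H514.Eppo
end
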