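import Cfsg.Agent.H493.PGCount_m3
import Cfsg.Agent.H493.PGSzRee
import Cfsg.Agent.ThreePrime.SzDataExists
import Cfsg.Agent.OddCyclic.T1SzFacts
import Cfsg.Agent.OddRank.SzTits
import Cfsg.Agent.SignalizersComponents.BalEndSz
import Cfsg.Agent.TwoFusion.CyclicAut
import Cfsg.Agent.FastGrp
import Cfsg.Agent.Prune
set_option linter.all false
prune_inst 0x7f00000000000000000000000000000000000000000000000000000000000000000000000000000000000000000000000000000000000000000000000000000000000000000000000000000000000000003fffffffffffffffffffffffffffbeffbdffffffff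
open scoped Cfsg.Agent.FastGrp

-- part: H514/OrdModTwo
section
/-!
# Modules in characteristic 2: elements of order 8

`V` a normal elementary abelian 2-subgroup of `G`; in `G ⧸ V` an element `u` of order 4 acts as a Frobenius complement
on `⟨x⟩`, `x` of odd prime order `l` not centralising `V`.  Then `G` has an element of order 8.
-/

set_option autoImplicit false
set_option linter.style.haveILetI false

namespace Cfsg.Agent.H514.OrdMod

open Subgroup
open scoped Pointwise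

/-- Lifting of an `l`-subgroup `E` of `G ⧸ V` and of an element normalising it (`V` of order prime to `l`). -/
theorem exists_lift_prime {G : Type*} [Group G] [Finite G] {l : ℕ} (hl : l.Prime) (V : Subgroup G) [V.Normal]
    (hV2 : ¬ l ∣ Nat.card V)
    (E : Subgroup (G ⧸ V)) (hE : IsPGroup l E) (y : G ⧸ V) (hy : ∀ e ∈ E, y * e * y⁻¹ ∈ E) :
    ∃ F : Subgroup G, F.map (QuotientGroup.mk' V) = E ∧ F ⊓ V = ⊥ ∧ IsPGroup l F ∧
      ∃ h : G, (h : G ⧸ V) = y ∧ ∀ f ∈ F, h * f * h⁻¹ ∈ F := by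
  classical
  haveI : Fact l.Prime := ⟨hl⟩
  set X : Subgroup G := E.comap (QuotientGroup.mk' V) with hX
  have hVX : V ≤ X := by
    intro v hv
    show (v : G ⧸ V) ∈ E
    rw [(QuotientGroup.eq_one_iff v).2 hv]; exact E.one_mem
  have hXmap : X.map (QuotientGroup.mk' V) = E :=
    Subgroup.map_comap_eq_self_of_surjective (QuotientGroup.mk'_surjective V) E
  obtain ⟨P⟩ : Nonempty (Sylow l X) := inferInstance
  set F : Subgroup G := (P : Subgroup X).map X.subtype with hF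
  have hF2 : IsPGroup l F := P.2.map _
  have hFX : F ≤ X := Subgroup.map_subtype_le _
  have hFV : F ⊓ V = ⊥ := by
    rw [eq_bot_iff]
    intro x hx
    rw [Subgroup.mem_bot]
    by_contra hx1
    obtain ⟨k, hk⟩ := (IsPGroup.iff_orderOf.1 hF2) ⟨x, hx.1⟩
    rw [Subgroup.orderOf_mk] at hk
    have hk0 : k ≠ 0 := by
      rintro rfl
      rw [pow_zero, orderOf_eq_one_iff] at hk
      exact hx1 hk
    apply hV2
    have h1 : orderOf x ∣ Nat.card V := by
      rw [← Subgroup.orderOf_mk x hx.2]; exact orderOf_dvd_natCard _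
    exact (dvd_pow_self l hk0).trans (hk ▸ h1)
  have hEc : Nat.card X = Nat.card E * Nat.card V := by
    have h1 := Subgroup.card_eq_card_quotient_mul_card_subgroup (V.subgroupOf X)
    have h2 : Nat.card (V.subgroupOf X) = Nat.card V := by
      rw [Nat.card_congr (Subgroup.subgroupOfEquivOfLe hVX).toEquiv]
    have h3 : Nat.card (X ⧸ V.subgroupOf X) = Nat.card E := by
      rw [← hXmap]
      have h4 : (V.subgroupOf X) = ((QuotientGroup.mk' V).comp X.subtype).ker := by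
        rw [← MonoidHom.comap_ker, QuotientGroup.ker_mk']; rfl
      have h5 : ((QuotientGroup.mk' V).comp X.subtype).range = X.map (QuotientGroup.mk' V) := by
        rw [MonoidHom.range_comp, Subgroup.range_subtype]
      rw [← h5]
      rw [Nat.card_congr (QuotientGroup.quotientMulEquivOfEq h4).toEquiv]
      exact Nat.card_congr (QuotientGroup.quotientKerEquivRange _).toEquiv
    rw [h1, h2, h3]
  obtain ⟨k, hk⟩ := IsPGroup.iff_card.1 hE
  have hFc : Nat.card F = Nat.card E := by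
    have h1 : Nat.card F = Nat.card P := Subgroup.card_map_of_injective X.subtype_injective
    rw [h1, P.card_eq_multiplicity, hEc, hk]
    have h2 : (l ^ k * Nat.card V).factorization l = k := by
      rw [Nat.factorization_mul (pow_pos hl.pos k).ne' Nat.card_pos.ne', Finsupp.add_apply,
        Nat.factorization_eq_zero_of_not_dvd hV2, Nat.Prime.factorization_pow hl]
      simp
    rw [h2]
  have hFmap : F.map (QuotientGroup.mk' V) = E := by
    apply Subgroup.eq_of_le_of_card_ge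
    · rw [← hXmap]; exact Subgroup.map_mono hFX
    · have h1 : Nat.card (F.map (QuotientGroup.mk' V)) = Nat.card F := by
        have hinj : Function.Injective ((QuotientGroup.mk' V).comp F.subtype) := by
          rw [injective_iff_map_eq_one]
          intro x hx
          have h2 : (x : G) ∈ F ⊓ V := ⟨x.2, (QuotientGroup.eq_one_iff _).1 hx⟩
          rw [hFV, Subgroup.mem_bot] at h2
          exact Subtype.ext h2
        have h5 : ((QuotientGroup.mk' V).comp F.subtype).range = F.map (QuotientGroup.mk' V) := by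
          rw [MonoidHom.range_comp, Subgroup.range_subtype]
        rw [← h5]
        exact (Nat.card_congr (MonoidHom.ofInjective hinj).toEquiv).symm
      rw [h1, hFc]
  refine ⟨F, hFmap, hFV, hF2, ?_⟩
  obtain ⟨y', rfl⟩ := QuotientGroup.mk_surjective y
  -- conjugation by `y'` on `X`
  have hXle : X.map (MulAut.conj y').toMonoidHom ≤ X := by
    rintro _ ⟨x, hx, rfl⟩
    show ((y' * x * y'⁻¹ : G) : G ⧸ V) ∈ E
    rw [QuotientGroup.mk_mul, QuotientGroup.mk_mul, QuotientGroup.mk_inv]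
    exact hy _ hx
  have hXeq : X.map (MulAut.conj y').toMonoidHom = X := by
    apply Subgroup.eq_of_le_of_card_ge hXle
    rw [Subgroup.card_map_of_injective (MulAut.conj y').injective]
  let φ : MulAut X := (((MulAut.conj y').subgroupMap X).trans (MulEquiv.subgroupCongr hXeq) : X ≃* X)
  have hφ : ∀ x : X, ((φ x : X) : G) = y' * x * y'⁻¹ := fun x => rfl
  obtain ⟨x, hx⟩ := MulAction.exists_smul_eq X (φ • P) P
  -- `x y'` normalises `F`
  have hxF : ∀ f ∈ F, ((x : G) * y') * f * ((x : G) * y')⁻¹ ∈ F := by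
    rintro _ ⟨f, hf, rfl⟩
    have h1 : x * φ f * x⁻¹ ∈ (P : Subgroup X) := by
      have h2 : φ f ∈ ((φ • P : Sylow l X) : Subgroup X) := by
        show φ f ∈ (φ • (P : Subgroup X))
        exact Subgroup.smul_mem_pointwise_smul f φ _ hf
      have h3 : x * φ f * x⁻¹ ∈ ((x • (φ • P) : Sylow l X) : Subgroup X) := by
        show x * φ f * x⁻¹ ∈ (MulAut.conj x • ((φ • P : Sylow l X) : Subgroup X))
        exact Subgroup.smul_mem_pointwise_smul (φ f) (MulAut.conj x) _ h2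
      rw [hx] at h3
      exact h3
    refine ⟨_, h1, ?_⟩
    show ((x * φ f * x⁻¹ : X) : G) = _
    rw [Subgroup.coe_mul, Subgroup.coe_mul, hφ, Subgroup.coe_inv]
    show (x : G) * (y' * f * y'⁻¹) * (x : G)⁻¹ = (x * y') * f * (x * y')⁻¹
    group
  have hxE : ((x : G) : G ⧸ V) ∈ E := x.2
  rw [← hFmap] at hxE
  obtain ⟨f, hf, hfx⟩ := hxE
  refine ⟨f⁻¹ * (x * y'), ?_, fun g hg => ?_⟩
  · have h1 : ((f : G) : G ⧸ V) = ((x : G) : G ⧸ V) := hfx
    rw [QuotientGroup.mk_mul, QuotientGroup.mk_mul, QuotientGroup.mk_inv, h1, inv_mul_cancel_left]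
  · have h1 := hxF g hg
    have h2 : f⁻¹ * (x * y') * g * (f⁻¹ * (x * y'))⁻¹ = f⁻¹ * ((x * y') * g * (x * y')⁻¹) * f := by group
    rw [h2]
    exact F.mul_mem (F.mul_mem (F.inv_mem hf) h1) hf

/-- **Elements of order 8.** -/
theorem exists_order_eight {G : Type*} [Group G] [Finite G] (V : Subgroup G) [V.Normal]
    (hVc : ∀ v ∈ V, ∀ w ∈ V, v * w = w * v) (hVr : ∀ v ∈ V, v ^ 2 = 1)
    {l : ℕ} (hl : l.Prime) (hl2 : l ≠ 2) {x y : G ⧸ V} (hx : orderOf x = l) (hy : orderOf y = 4)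
    (hyx : y * x * y⁻¹ ∈ zpowers x)
    (hfix : ∀ i : ℕ, 0 < i → i < 4 → ∀ k : ℕ, Commute (x ^ k) (y ^ i) → x ^ k = 1)
    (hnc : ∃ g : G, (g : G ⧸ V) ∈ zpowers x ∧ ∃ v ∈ V, g * v ≠ v * g) : ∃ g : G, orderOf g = 8 := by
  classical
  haveI : Fact (Nat.Prime 2) := ⟨Nat.prime_two⟩
  haveI := Fact.mk hl
  have hVp : IsPGroup 2 V := fun v => ⟨1, by
    rw [pow_one]; exact Subtype.ext (hVr v v.2)⟩
  have hVl : ¬ l ∣ Nat.card V := by
    intro h2
    obtain ⟨n, hn⟩ := IsPGroup.iff_card.1 hVp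
    rw [hn] at h2
    exact hl2 ((Nat.prime_dvd_prime_iff_eq hl Nat.prime_two).1 (hl.dvd_of_dvd_pow h2))
  have hE : IsPGroup l (zpowers x) := by
    refine IsPGroup.of_card (n := 1) ?_
    rw [Nat.card_zpowers, hx, pow_one]
  have hyE : ∀ e ∈ zpowers x, y * e * y⁻¹ ∈ zpowers x := by
    intro e he
    obtain ⟨k, rfl⟩ := mem_zpowers_iff.1 he
    have h1 : y * x ^ k * y⁻¹ = (y * x * y⁻¹) ^ k := by rw [conj_zpow]
    rw [h1]
    exact zpow_mem hyx k
  obtain ⟨F, hFmap, hFV, hFl, h, hhy, hF⟩ := exists_lift_prime hl V hVl (zpowers x) hE y hyE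
  letI : Fintype F := Fintype.ofFinite F
  letI : CommGroup V := { (inferInstance : Group V) with mul_comm := fun v w => Subtype.ext (hVc v v.2 w w.2) }
  let a : G →* MulAut V := MulAut.conjNormal
  have ha : ∀ g : G, ∀ v : V, ((a g v : V) : G) = g * v * g⁻¹ := fun g v => MulAut.conjNormal_apply g v
  have hF' : ∀ f ∈ F, h⁻¹ * f * h ∈ F := by
    have h1 : F.map (MulAut.conj h).toMonoidHom = F := by
      apply Subgroup.eq_of_le_of_card_ge
      · rintro _ ⟨f, hf, rfl⟩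
        exact hF f hf
      · rw [Subgroup.card_map_of_injective (MulAut.conj h).injective]
    intro f hf
    rw [← h1] at hf
    obtain ⟨g, hg, rfl⟩ := hf
    have : h⁻¹ * ((MulAut.conj h).toMonoidHom g) * h = g := by
      show h⁻¹ * (h * g * h⁻¹) * h = g
      group
    rw [this]; exact hg
  have hinj : ∀ f ∈ F, (f : G ⧸ V) = 1 → f = 1 := by
    intro f hf h1
    have h2 : f ∈ F ⊓ V := ⟨hf, (QuotientGroup.eq_one_iff _).1 h1⟩
    rwa [hFV, Subgroup.mem_bot] at h2
  have hfixF : ∀ f ∈ F, ∀ i : ℕ, 0 < i → i < 4 → Commute f (h ^ i) → f = 1 := by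
    intro f hf i hi hi4 hc
    apply hinj f hf
    have hfE : (f : G ⧸ V) ∈ zpowers x := by rw [← hFmap]; exact ⟨f, hf, rfl⟩
    obtain ⟨k, hk⟩ := (Submonoid.mem_powers_iff _ _).1 ((mem_powers_iff_mem_zpowers).2 hfE)
    rw [← hk]
    apply hfix i hi hi4 k
    have h2 : ((f * h ^ i : G) : G ⧸ V) = ((h ^ i * f : G) : G ⧸ V) := congrArg _ hc
    rw [QuotientGroup.mk_mul, QuotientGroup.mk_mul, QuotientGroup.mk_pow, hhy, ← hk] at h2
    exact h2
  -- the element `w`
  obtain ⟨g0, hg0, v0, hv0, hne0⟩ := hnc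
  rw [← hFmap] at hg0
  obtain ⟨f0, hf0, hfg⟩ := hg0
  have hne : f0 * v0 ≠ v0 * f0 := by
    intro hcom
    apply hne0
    have h1 : f0⁻¹ * g0 ∈ V := QuotientGroup.eq.1 (show ((f0 : G) : G ⧸ V) = g0 from hfg)
    have h2 : g0 = f0 * (f0⁻¹ * g0) := by group
    rw [h2, mul_assoc, hVc _ h1 _ hv0, ← mul_assoc, hcom, mul_assoc]
  let w : V := (⟨v0, hv0⟩ : V)⁻¹ * a f0 ⟨v0, hv0⟩
  have hw1 : w ≠ 1 := by
    intro h1
    have h2 : a f0 ⟨v0, hv0⟩ = ⟨v0, hv0⟩ := (inv_mul_eq_one.1 h1).symm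
    have h3 := congrArg (fun x : V => (x : G)) h2
    simp only [ha] at h3
    apply hne
    rw [mul_inv_eq_iff_eq_mul] at h3
    exact h3
  have hVpow : ∀ v : V, v ^ 2 = 1 := fun v => Subtype.ext (hVr v v.2)
  have hcop : ∀ v : V, v ^ Nat.card F = 1 → v = 1 := by
    intro v hv
    have h1 : orderOf v ∣ Nat.card F := orderOf_dvd_of_pow_eq_one hv
    have h2 : orderOf v ∣ 2 := orderOf_dvd_of_pow_eq_one (hVpow v)
    obtain ⟨n, hn⟩ := IsPGroup.iff_card.1 hFl
    rw [hn] at h1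
    have h4 : Nat.Coprime (l ^ n) 2 := Nat.Coprime.pow_left _ ((Nat.coprime_primes hl Nat.prime_two).2 hl2)
    have h3 : orderOf v ∣ 1 := by
      have := Nat.dvd_gcd h1 h2
      rwa [h4.gcd_eq_one] at this
    exact orderOf_eq_one_iff.1 (Nat.dvd_one.1 h3)
  have hshift : ∀ g ∈ F, ∀ v : V, ∏ f : F, a f (a g v) = ∏ f : F, a f v := by
    intro g hg v
    rw [← Equiv.prod_comp (Equiv.mulRight (⟨g, hg⟩ : F)) (fun f : F => a f v)]
    refine Finset.prod_congr rfl (fun f _ => ?_)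
    show a f (a g v) = a ((f : G) * g) v
    rw [map_mul]; rfl
  have hw : ∏ f : F, a f w = 1 := by
    have h1 : ∀ f : F, a f w = (a f ⟨v0, hv0⟩)⁻¹ * a f (a f0 ⟨v0, hv0⟩) := by
      intro f
      show a f ((⟨v0, hv0⟩ : V)⁻¹ * a f0 ⟨v0, hv0⟩) = _
      rw [map_mul, map_inv]
    rw [Finset.prod_congr rfl (fun f _ => h1 f), Finset.prod_mul_distrib, Finset.prod_inv_distrib,
      hshift f0 hf0, inv_mul_cancel]
  obtain ⟨f1, hf1, hz⟩ := norm_ne_one a F h 4 (by norm_num) hF' hfixF w hw (fun h1 => hw1 (hcop w h1))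
  have h4V : h ^ 4 ∈ V := by
    rw [← QuotientGroup.eq_one_iff, QuotientGroup.mk_pow, hhy, ← hy, pow_orderOf_eq_one]
  by_cases hh4 : h ^ 4 = 1
  · refine ⟨((a f1 w : V) : G) * h, ?_⟩
    have h1 : (((a f1 w : V) : G) * h) ^ 4 = _ := mul_pow_eq V hVc (a f1 w) h 4
    rw [hh4, mul_one] at h1
    have h2 : (((a f1 w : V) : G) * h) ^ (2 ^ (2 + 1)) = 1 := by
      rw [show 2 ^ (2 + 1) = 4 * 2 by norm_num, pow_mul, h1]
      exact hVr _ (SetLike.coe_mem _)
    have h3 : ¬ (((a f1 w : V) : G) * h) ^ (2 ^ 2) = 1 := by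
      rw [show 2 ^ 2 = 4 by norm_num, h1]
      intro h4
      exact hz (Subtype.ext h4)
    rw [orderOf_eq_prime_pow h3 h2]; norm_num
  · refine ⟨h, ?_⟩
    have h2 : h ^ (2 ^ (2 + 1)) = 1 := by
      rw [show 2 ^ (2 + 1) = 4 * 2 by norm_num, pow_mul]
      exact hVr _ h4V
    have h3 : ¬ h ^ (2 ^ 2) = 1 := by
      rw [show 2 ^ 2 = 4 by norm_num]
      exact hh4
    rw [orderOf_eq_prime_pow h3 h2]; norm_num

end Cfsg.Agent.H514.OrdMod
end

-- part: H514/OrdSz
section
/-!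
# Suzuki groups: numbers of prime and composite element orders
-/

set_option autoImplicit false
set_option linter.style.haveILetI false

namespace Cfsg.Agent.H514.OC.Sz

open Subgroup Cfsg.Agent.H493.PG
open scoped Pointwise

universe u v

/-- The primes dividing `|Sz(q)|` form four cliques. -/
theorem cliques {K : Type*} [Group K] [Finite K] (hK : Cfsg.Lie.IsoSuzuki K) :
    ∃ P : Fin 4 → ℕ → Prop, (∀ r : ℕ, r.Prime → r ∣ Nat.card K → ∃ i, P i r) ∧
      (∀ i, ∀ r s : ℕ, r.Prime → s.Prime → r ∣ Nat.card K → s ∣ Nat.card K → P i r → P i s → Conn K r s) ∧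
      ∀ r, P 0 r ↔ r = 2 := by
  obtain ⟨F, _, _, m, hm, hF, ⟨e⟩⟩ := hK
  obtain ⟨e'⟩ := Cfsg.Agent.OddCyclic.ClaimC.SzIso.iso hm hF
  let f : K ≃* ↥(Cfsg.Sz F m) := e.trans e'.symm
  let N : Fin 3 → ℕ := ![2 ^ (2 * m + 1) - 1, 2 ^ (2 * m + 1) + 2 ^ (m + 1) + 1, 2 ^ (2 * m + 1) - 2 ^ (m + 1) + 1]
  refine ⟨Fin.cons (fun r => r = 2)
    (fun i r => r ∣ N i ∧ ∃ U : Subgroup ↥(Cfsg.Sz F m), IsCyclic U ∧ Nat.card U = N i), ?_, ?_, fun r => Iff.rfl⟩
  · intro r hr hrG
    rw [Nat.card_congr f.toEquiv] at hrG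
    by_cases h2 : r = 2
    · exact ⟨0, h2⟩
    have := Fact.mk hr
    obtain ⟨x, hx⟩ := exists_prime_orderOf_dvd_card' r hrG
    have hx1 : x ≠ 1 := by
      rintro rfl
      rw [orderOf_one] at hx
      exact hr.one_lt.ne hx
    obtain ⟨U, ⟨hU, hxU⟩, -⟩ := Cfsg.Agent.S2238.result hm hF x hx1
    rcases hU with ⟨P, rfl⟩ | ⟨hc, hN⟩
    · exfalso
      obtain ⟨k, hk⟩ := P.isPGroup' ⟨x, hxU⟩
      have h3 : x ^ 2 ^ k = 1 := congrArg Subtype.val hk
      have h4 : r ∣ 2 ^ k := hx ▸ orderOf_dvd_of_pow_eq_one h3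
      exact h2 ((Nat.prime_dvd_prime_iff_eq hr Nat.prime_two).1 (hr.dvd_of_dvd_pow h4))
    · have h5 : r ∣ Nat.card U := by
        rw [← hx, ← Subgroup.orderOf_mk x hxU]
        exact orderOf_dvd_natCard _
      rcases hN with hN | hN | hN
      · exact ⟨1, h5.trans (dvd_of_eq hN), U, hc, hN⟩
      · exact ⟨2, h5.trans (dvd_of_eq hN), U, hc, hN⟩
      · exact ⟨3, h5.trans (dvd_of_eq hN), U, hc, hN⟩
  · intro i
    refine Fin.cases ?_ (fun i => ?_) i
    · intro r s _ _ _ _ h1 h2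
      have h1 : r = 2 := h1
      have h2 : s = 2 := h2
      rw [h1, h2]
      exact Conn.refl 2
    · rintro r s hr hs _ _ ⟨h1, U, hU, hc⟩ ⟨h2, -⟩
      exact (conn_of_cyclic hU hr hs (by rw [hc]; exact h1) (by rw [hc]; exact h2)).of_injective f.symm.toMonoidHom
        f.symm.injective

/-- a Sylow subgroup contains a conjugate of each element of prime power order -/
theorem exists_conj_mem {K : Type*} [Group K] [Finite K] {p : ℕ} [Fact p.Prime] (P : Sylow p K) {x : K} {n : ℕ}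
    (hx : orderOf x = p ^ n) : ∃ k : K, k * x * k⁻¹ ∈ (P : Subgroup K) := by
  have h1 : IsPGroup p (zpowers x) := IsPGroup.of_card (n := n) (by rw [Nat.card_zpowers, hx])
  obtain ⟨Q, hQ⟩ := h1.exists_le_sylow
  obtain ⟨k, hk⟩ := MulAction.exists_smul_eq K Q P
  refine ⟨k, ?_⟩
  rw [← hk]
  show k * x * k⁻¹ ∈ (MulAut.conj k • (Q : Subgroup K))
  exact Subgroup.smul_mem_pointwise_smul x (MulAut.conj k) _ (hQ (mem_zpowers x))

/-- one class of involutions -/
theorem conj_two {K : Type*} [Group K] [Finite K] (hK : Cfsg.Lie.IsoSuzuki K) {x y : K} (hx : orderOf x = 2)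
    (hy : orderOf y = 2) : ∃ k : K, k * x * k⁻¹ = y := by
  haveI : Fact (Nat.Prime 2) := ⟨Nat.prime_two⟩
  obtain ⟨T⟩ : Nonempty (Sylow 2 K) := inferInstance
  have hm := OddCyclic.T1SzFacts.szMore hK T
  obtain ⟨a, ha⟩ := exists_conj_mem T (x := x) (n := 1) (by rw [hx]; rfl)
  obtain ⟨b, hb⟩ := exists_conj_mem T (x := y) (n := 1) (by rw [hy]; rfl)
  have key : ∀ (g z : K), orderOf z = 2 → (g * z * g⁻¹) * (g * z * g⁻¹) = 1 ∧ g * z * g⁻¹ ≠ 1 := by
    intro g z hz
    have h1 : orderOf (g * z * g⁻¹) = 2 := by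
      rw [← hz]; exact (MulAut.conj g).orderOf_eq z
    refine ⟨by rw [← pow_two, ← h1, pow_orderOf_eq_one], fun h => ?_⟩
    rw [h, orderOf_one] at h1
    norm_num at h1
  obtain ⟨d, -, hd⟩ := hm.trans_inv _ ha _ hb (key a x hx).1 (key b y hy).1 (key a x hx).2 (key b y hy).2
  refine ⟨b⁻¹ * d * a, ?_⟩
  calc b⁻¹ * d * a * x * (b⁻¹ * d * a)⁻¹ = b⁻¹ * (d * (a * x * a⁻¹) * d⁻¹) * b := by group
    _ = b⁻¹ * (b * y * b⁻¹) * b := by rw [hd]
    _ = y := by group

/-- one class of elements of order 5 -/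
theorem conj_five {K : Type*} [Group K] [Finite K] (hK : Cfsg.Lie.IsoSuzuki K) {x y : K} (hx : orderOf x = 5)
    (hy : orderOf y = 5) : ∃ k : K, k * x * k⁻¹ = y := by
  haveI : Fact (Nat.Prime 2) := ⟨Nat.prime_two⟩
  haveI : Fact (Nat.Prime 5) := ⟨Nat.prime_five⟩
  obtain ⟨T⟩ : Nonempty (Sylow 2 K) := inferInstance
  obtain ⟨z, s, -, -, hz, -, -, -, -, hsz, -⟩ := OddCyclic.T1SzFacts.exists_five hK T
  have h0 : IsPGroup 5 (zpowers z) := IsPGroup.of_card (n := 1) (by rw [Nat.card_zpowers, hz, pow_one])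
  obtain ⟨P, hP⟩ := h0.exists_le_sylow
  have hcyc : IsCyclic (P : Subgroup K) := OddRank.SzTits.isCyclic_of_isPGroup hK (by norm_num) _ P.2
  have key : ∀ w : K, orderOf w = 5 → ∃ k : K, k * w * k⁻¹ = z := by
    intro w hw
    obtain ⟨a, ha⟩ := exists_conj_mem P (x := w) (n := 1) (by rw [hw]; rfl)
    have h1 : orderOf (a * w * a⁻¹) = 5 := by
      rw [← hw]; exact (MulAut.conj a).orderOf_eq w
    have h2 : zpowers (⟨z, hP (mem_zpowers z)⟩ : (P : Subgroup K)) = zpowers ⟨a * w * a⁻¹, ha⟩ := by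
      apply TwoFusion.CyclicAut.zpowers_eq_of_orderOf_eq
      rw [Subgroup.orderOf_mk, Subgroup.orderOf_mk, hz, h1]
    have h3 : (⟨a * w * a⁻¹, ha⟩ : (P : Subgroup K)) ∈ zpowers (⟨z, hP (mem_zpowers z)⟩ : (P : Subgroup K)) := by
      rw [h2]; exact mem_zpowers _
    rw [← mem_powers_iff_mem_zpowers, Submonoid.mem_powers_iff] at h3
    obtain ⟨n, hn⟩ := h3
    have h4 : z ^ n = a * w * a⁻¹ := congrArg Subtype.val hn
    -- reduce the exponent
    have h5 : z ^ (n % 5) = a * w * a⁻¹ := by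
      rw [← h4]
      conv_rhs => rw [← Nat.mod_add_div n 5, pow_add, pow_mul, ← hz, pow_orderOf_eq_one, one_pow, mul_one]
      rw [hz]
    have hz5 : z ^ 5 = 1 := by rw [← hz, pow_orderOf_eq_one]
    have c1 : ∀ k : ℕ, s * z ^ k * s⁻¹ = z ^ (3 * k) := by
      intro k
      have : s * z ^ k * s⁻¹ = (s * z * s⁻¹) ^ k := by rw [conj_pow]
      rw [this, hsz, ← pow_mul]
    have hlt : n % 5 < 5 := Nat.mod_lt _ (by norm_num)
    interval_cases hn5 : n % 5
    · exfalso
      rw [pow_zero] at h5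
      rw [← h5, orderOf_one] at h1
      norm_num at h1
    · exact ⟨a, by rw [← h5, pow_one]⟩
    · refine ⟨s * a, ?_⟩
      calc s * a * w * (s * a)⁻¹ = s * (a * w * a⁻¹) * s⁻¹ := by group
        _ = z ^ (3 * 2) := by rw [← h5, c1]
        _ = z := by rw [show 3 * 2 = 5 + 1 by norm_num, pow_add, hz5, one_mul, pow_one]
    · refine ⟨s * s * s * a, ?_⟩
      calc s * s * s * a * w * (s * s * s * a)⁻¹ = s * (s * (s * (a * w * a⁻¹) * s⁻¹) * s⁻¹) * s⁻¹ := by group
        _ = z ^ (3 * (3 * (3 * 3))) := by rw [← h5, c1, c1, c1]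
        _ = z := by rw [show 3 * (3 * (3 * 3)) = 5 * 16 + 1 by norm_num, pow_add, pow_mul, hz5, one_pow, one_mul, pow_one]
    · refine ⟨s * s * a, ?_⟩
      calc s * s * a * w * (s * s * a)⁻¹ = s * (s * (a * w * a⁻¹) * s⁻¹) * s⁻¹ := by group
        _ = z ^ (3 * (3 * 4)) := by rw [← h5, c1, c1]
        _ = z := by rw [show 3 * (3 * 4) = 5 * 7 + 1 by norm_num, pow_add, pow_mul, hz5, one_pow, one_mul, pow_one]
  obtain ⟨a, ha⟩ := key x hx
  obtain ⟨b, hb⟩ := key y hy
  refine ⟨b⁻¹ * a, ?_⟩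
  calc b⁻¹ * a * x * (b⁻¹ * a)⁻¹ = b⁻¹ * (a * x * a⁻¹) * b := by group
    _ = b⁻¹ * (b * y * b⁻¹) * b := by rw [ha, hb]
    _ = y := by group

theorem fused_of_class {G : Type*} [Group G] (S : Subgroup G) [hS : S.Normal] {u : G} (hu : u ∈ S)
    (h : ∀ x y : S, orderOf x = orderOf u → orderOf y = orderOf u → ∃ k : S, k * x * k⁻¹ = y) :
    ∀ g : G, ∃ s ∈ S, g * u * g⁻¹ = s * u * s⁻¹ := by
  intro g
  have hg := hS.conj_mem u hu g
  obtain ⟨k, hk⟩ := h ⟨u, hu⟩ ⟨g * u * g⁻¹, hg⟩ (Subgroup.orderOf_mk _ _) (by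
    rw [Subgroup.orderOf_mk]; exact (MulAut.conj g).orderOf_eq u)
  exact ⟨k, k.2, (congrArg Subtype.val hk).symm⟩

/-- **Almost simple groups with socle a Suzuki group.** -/
theorem almost_false
    (hinv : ∀ (K : Type u) [Group K] [Finite K] [IsSimpleGroup K], ¬ IsMulCommutative K →
      ∀ r : ℕ, r.Prime → r ≠ 2 → ¬ r ∣ Nat.card K → ∀ x : MulAut K, x ^ r = 1 → ∃ g : K, orderOf g = 2 ∧ x g = g)
    {G : Type u} [Group G] [Finite G] (S : Subgroup G) [hSn : S.Normal] (hSs : IsSimpleGroup S)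
    (hSna : ¬ IsMulCommutative S) (htop : S ≠ ⊤) (hK : Cfsg.Lie.IsoSuzuki S) (hfew : ¬ Few 4 G) : False := by
  classical
  haveI : Fact (Nat.Prime 2) := ⟨Nat.prime_two⟩
  obtain ⟨T⟩ : Nonempty (Sylow 2 S) := inferInstance
  obtain ⟨z, s, -, -, hz, -, -, -, hs, -, -⟩ := OddCyclic.T1SzFacts.exists_five hK T
  have hx2 : orderOf (((s ^ 2 : S)) : G) = 2 := by
    rw [Subgroup.orderOf_coe, orderOf_pow, hs]; norm_num
  have hx5 : orderOf ((z : S) : G) = 5 := by rw [Subgroup.orderOf_coe, hz]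
  have h2d : 2 ∣ Nat.card S := by
    rw [← hx2, Subgroup.orderOf_coe]; exact orderOf_dvd_natCard _
  have h5d : 5 ∣ Nat.card S := by
    rw [← hz]; exact orderOf_dvd_natCard z
  have hidx : S.index ≠ 1 := fun h => htop (Subgroup.index_eq_one.1 h)
  obtain ⟨l, hl, hld⟩ := Nat.exists_prime_and_dvd hidx
  have f2 : l ≠ 2 → Rel G l 2 := fun hne =>
    rel_of_fusion S (fused_of_class S (SetLike.coe_mem (s ^ 2)) (fun x y hx hy =>
      conj_two hK (by rw [hx, hx2]) (by rw [hy, hx2]))) hl hld Nat.prime_two hx2 hne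
  have f5 : l ≠ 5 → Rel G l 5 := fun hne =>
    rel_of_fusion S (fused_of_class S z.2 (fun x y hx hy =>
      conj_five hK (by rw [hx, hx5]) (by rw [hy, hx5]))) hl hld Nat.prime_five hx5 hne
  have hconn : Conn G 2 5 := by
    by_cases hl2 : l = 2
    · subst hl2
      exact (f5 (by norm_num)).conn
    · by_cases hl5 : l = 5
      · subst hl5
        exact (f2 hl2).symm.conn
      · exact (f2 hl2).symm.conn.trans (f5 hl5).conn
  obtain ⟨P, hP, hcl, hP0⟩ := cliques hK
  obtain ⟨j, hj⟩ := hP 5 Nat.prime_five h5d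
  have hj0 : (0 : Fin 4) ≠ j := by
    rintro rfl
    have := (hP0 5).1 hj
    norm_num at this
  exact false_of_merge hinv 4 (by norm_num) G S hSs hSna (even_iff_two_dvd.2 h2d) hfew P hP hcl hj0
    Nat.prime_two Nat.prime_five h2d h5d ((hP0 2).2 rfl) hj hconn

/-- an element of order 4 -/
theorem four_mem {K : Type*} [Group K] [Finite K] (hK : Cfsg.Lie.IsoSuzuki K) : 4 ∈ OtS K := by
  haveI : Fact (Nat.Prime 2) := ⟨Nat.prime_two⟩
  obtain ⟨T⟩ : Nonempty (Sylow 2 K) := inferInstance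
  obtain ⟨z, s, -, -, hz, -, -, -, hs, -, -⟩ := OddCyclic.T1SzFacts.exists_five hK T
  refine ⟨⟨⟨s, hs⟩, by norm_num, by norm_num⟩, ?_⟩
  rintro ⟨a, b, ha, hb, hab, h⟩
  have h1 : a ∣ 2 ^ 2 := ⟨b, by rw [← h]; norm_num⟩
  have h2 : b ∣ 2 ^ 2 := ⟨a, by rw [mul_comm, ← h]; norm_num⟩
  have h3 := (Nat.prime_dvd_prime_iff_eq ha Nat.prime_two).1 (ha.dvd_of_dvd_pow h1)
  have h4 := (Nat.prime_dvd_prime_iff_eq hb Nat.prime_two).1 (hb.dvd_of_dvd_pow h2)
  exact hab (h3.trans h4.symm)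

/-- no elements of order 8 -/
theorem no_eight {K : Type*} [Group K] [Finite K] (hK : Cfsg.Lie.IsoSuzuki K) (x : K) : orderOf x ≠ 8 := by
  haveI : Fact (Nat.Prime 2) := ⟨Nat.prime_two⟩
  intro hx
  obtain ⟨T⟩ : Nonempty (Sylow 2 K) := inferInstance
  have hm := OddCyclic.T1SzFacts.szMore hK T
  obtain ⟨a, ha⟩ := exists_conj_mem T (x := x) (n := 3) (by rw [hx]; rfl)
  have h1 := hm.sq_sq _ ha
  have h2 : orderOf (a * x * a⁻¹) = 8 := by
    rw [← hx]; exact (MulAut.conj a).orderOf_eq x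
  have h3 : (a * x * a⁻¹) ^ 4 = 1 := by
    rw [show 4 = 2 + 2 by norm_num, pow_add, pow_two]; exact h1
  have h4 := orderOf_dvd_of_pow_eq_one h3
  rw [h2] at h4
  norm_num at h4

/-- no elements of order `2 r` -/
theorem no_two_mul {K : Type*} [Group K] [Finite K] (hK : Cfsg.Lie.IsoSuzuki K) {r : ℕ} (hr : r.Prime) (hr2 : r ≠ 2)
    (x : K) : orderOf x ≠ 2 * r := by
  intro hx
  have h1 : orderOf (x ^ r) = 2 := by
    rw [orderOf_pow_of_dvd hr.ne_zero (by rw [hx]; exact Dvd.intro_left _ rfl), hx,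
      Nat.mul_div_cancel _ hr.pos]
  have h2 : orderOf (x ^ 2) = r := by
    rw [orderOf_pow_of_dvd two_ne_zero (by rw [hx]; exact Dvd.intro _ rfl), hx,
      Nat.mul_div_cancel_left _ (by norm_num)]
  have h3 := SignalizersComponents.BalEndSz.isPGroup_centralizer_suzuki hK h1
  have h4 : x ^ 2 ∈ centralizer ({x ^ r} : Set K) := by
    rw [mem_centralizer_singleton_iff]
    exact (Commute.refl x).pow_pow 2 r
  obtain ⟨k, hk⟩ := IsPGroup.iff_orderOf.1 h3 ⟨x ^ 2, h4⟩
  rw [Subgroup.orderOf_mk, h2] at hk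
  exact hr2 ((Nat.prime_dvd_prime_iff_eq hr Nat.prime_two).1 (hr.dvd_of_dvd_pow (show r ∣ 2 ^ k by rw [← hk])))

/-- **Modules for the Suzuki groups.** -/
theorem modOK {K : Type v} [Group K] [Finite K] (hK : Cfsg.Lie.IsoSuzuki K) : ModOK.{u, v} K := by
  classical
  haveI : Fact (Nat.Prime 2) := ⟨Nat.prime_two⟩
  obtain ⟨T⟩ : Nonempty (Sylow 2 K) := inferInstance
  refine ⟨?_, ?_⟩
  · obtain ⟨D, hD⟩ := ThreePrime.SzRel.exists_szData hK T
    have hm := OddCyclic.T1SzFacts.szMore hK T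
    -- `T ≠ 1`, `D ≠ 1`
    have hcard : 8 ≤ Nat.card ((T : Subgroup K) ⊓ Subgroup.centralizer ((T : Subgroup K) : Set K) : Subgroup K) := hD.card
    have hT1 : (T : Subgroup K) ≠ ⊥ := by
      intro h
      rw [h, bot_inf_eq, Subgroup.card_bot] at hcard
      omega
    have hD1 : D ≠ ⊥ := by
      intro h
      -- two distinct involutions
      set Z : Subgroup K := (T : Subgroup K) ⊓ Subgroup.centralizer ((T : Subgroup K) : Set K) with hZ
      have hZ2 : ∀ a ∈ Z, a * a = 1 := by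
        intro a ha
        exact (hD.sq_iff a ha.1).2 (fun y hy => (mem_centralizer_iff.1 ha.2 y hy).symm)
      have h3 : 2 < Nat.card Z := by omega
      have h4 : ∃ a ∈ Z, ∃ b ∈ Z, a ≠ 1 ∧ b ≠ 1 ∧ a ≠ b := by
        by_contra hcon
        push Not at hcon
        have h5 : Nat.card Z ≤ 2 := by
          by_cases hex : ∃ a ∈ Z, a ≠ 1
          · obtain ⟨a, ha, ha1⟩ := hex
            have h6 : (Z : Set K) ⊆ {1, a} := by
              intro b hb
              by_cases hb1 : b = 1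
              · exact Or.inl hb1
              · exact Or.inr (hcon a ha b hb ha1 hb1).symm
            have h7 := Set.ncard_le_ncard h6 (Set.toFinite _)
            have h8 : ({1, a} : Set K).ncard ≤ 2 := Set.ncard_insert_le _ _ |>.trans (by rw [Set.ncard_singleton])
            have h9 : Nat.card Z = (Z : Set K).ncard := rfl
            omega
          · push Not at hex
            have : Z = ⊥ := (Subgroup.eq_bot_iff_forall Z).2 hex
            rw [this, Subgroup.card_bot]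
            norm_num
        omega
      obtain ⟨a, ha, b, hb, ha1, hb1, hab⟩ := h4
      obtain ⟨d, hd, hdd⟩ := hD.trans a ha.1 b hb.1 ha1 hb1 (hZ2 a ha) (hZ2 b hb)
      rw [h, mem_bot] at hd
      apply hab
      rw [← hdd, hd]; group
    have hDc : Nat.card D ≠ 1 := by rw [Ne, Subgroup.card_eq_one]; exact hD1
    obtain ⟨p, hp, hpd⟩ := Nat.exists_prime_and_dvd hDc
    haveI := Fact.mk hp
    obtain ⟨y, hy⟩ := exists_prime_orderOf_dvd_card' (G := D) p hpd
    have hp2 : p ≠ 2 := by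
      rintro rfl
      exact (Nat.not_even_iff_odd.2 hD.odd) (even_iff_two_dvd.2 hpd)
    have hyN := hD.D_le y.2
    refine ⟨(T : Subgroup K), y, p, T.2, hT1, hp, hp2, by rw [Subgroup.orderOf_coe, hy],
      fun e he => (mem_normalizer_iff.1 hyN e).1 he, fun e he h => ?_, ?_⟩
    · rcases hD.fpf y y.2 e he h with h1 | h1
      · exfalso
        have : (y : D) = 1 := Subtype.ext h1
        rw [this, orderOf_one] at hy
        exact hp.ne_one hy.symm
      · exact h1
    · rintro r hr hr2 - ⟨g, hg⟩ - -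
      exact no_two_mul hK hr hr2 g hg
  · rintro G _ _ V _ hV hVc hVr hCV ⟨e⟩ hcos
    obtain ⟨z, s, hz1, -, hz, -, -, -, hs, hsz, -⟩ := OddCyclic.T1SzFacts.exists_five hK T
    have hz5 : z ^ 5 = 1 := by rw [← hz, pow_orderOf_eq_one]
    have c1 : ∀ k : ℕ, s * z ^ k * s⁻¹ = z ^ (3 * k) := by
      intro k
      have : s * z ^ k * s⁻¹ = (s * z * s⁻¹) ^ k := by rw [conj_pow]
      rw [this, hsz, ← pow_mul]
    have c2 : ∀ i k : ℕ, s ^ i * z ^ k * (s ^ i)⁻¹ = z ^ (3 ^ i * k) := by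
      intro i
      induction i with
      | zero => intro k; simp
      | succ i ih =>
        intro k
        have : s ^ (i + 1) * z ^ k * (s ^ (i + 1))⁻¹ = s ^ i * (s * z ^ k * s⁻¹) * (s ^ i)⁻¹ := by
          rw [pow_succ]; group
        rw [this, c1, ih]
        congr 1
        ring
    have hfix : ∀ i : ℕ, 0 < i → i < 4 → ∀ k : ℕ, Commute (z ^ k) (s ^ i) → z ^ k = 1 := by
      intro i hi hi4 k hc
      have h1 : z ^ (3 ^ i * k) = z ^ k := by
        rw [← c2 i k, ← hc.eq, mul_inv_cancel_right]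
      have h2 : z ^ k = z ^ k := rfl
      interval_cases i
      · have h3 : z ^ (2 * k) = 1 := by
          have : z ^ (3 ^ 1 * k) = z ^ (2 * k) * z ^ k := by rw [← pow_add]; congr 1; ring
          rw [this] at h1
          exact mul_eq_right.1 h1
        have h4 : z ^ (5 * k) = 1 := by rw [pow_mul, hz5, one_pow]
        have h5 : z ^ (5 * k) = z ^ (2 * k) * z ^ (2 * k) * z ^ k := by rw [← pow_add, ← pow_add]; congr 1; ring
        rw [h5, h3, one_mul, one_mul] at h4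
        exact h4
      · have h3 : z ^ (8 * k) = 1 := by
          have : z ^ (3 ^ 2 * k) = z ^ (8 * k) * z ^ k := by rw [← pow_add]; congr 1; ring
          rw [this] at h1
          exact mul_eq_right.1 h1
        have h4 : z ^ (5 * k) = 1 := by rw [pow_mul, hz5, one_pow]
        have h5 : z ^ (8 * k) * z ^ (8 * k) = z ^ (5 * k) * z ^ (5 * k) * z ^ (5 * k) * z ^ k := by
          rw [← pow_add, ← pow_add, ← pow_add, ← pow_add]; congr 1; ring
        rw [h3, h4] at h5
        simpa using h5.symm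
      · have h3 : z ^ (26 * k) = 1 := by
          have : z ^ (3 ^ 3 * k) = z ^ (26 * k) * z ^ k := by rw [← pow_add]; congr 1; ring
          rw [this] at h1
          exact mul_eq_right.1 h1
        have h4 : z ^ (25 * k) = 1 := by
          rw [show 25 * k = 5 * (5 * k) by ring, pow_mul, hz5, one_pow]
        have h5 : z ^ (26 * k) = z ^ (25 * k) * z ^ k := by rw [← pow_add]; congr 1; ring
        rw [h3, h4, one_mul] at h5
        exact h5.symm
    -- transport to `G ⧸ V`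
    set x' := e.symm z with hx'
    set y' := e.symm s with hy'
    have hox : orderOf x' = 5 := by rw [hx', MulEquiv.orderOf_eq, hz]
    have hoy : orderOf y' = 4 := by rw [hy', MulEquiv.orderOf_eq, hs]
    have hyx : y' * x' * y'⁻¹ ∈ zpowers x' := by
      rw [hx', hy', ← map_inv, ← map_mul, ← map_mul, hsz, map_pow]
      exact npow_mem_zpowers _ _
    have hfix' : ∀ i : ℕ, 0 < i → i < 4 → ∀ k : ℕ, Commute (x' ^ k) (y' ^ i) → x' ^ k = 1 := by
      intro i hi hi4 k hc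
      have h1 : Commute (z ^ k) (s ^ i) := by
        have h2 := hc.map e
        rwa [map_pow, map_pow, hx', hy', e.apply_symm_apply, e.apply_symm_apply] at h2
      have h3 := hfix i hi hi4 k h1
      rw [hx', ← map_pow, h3, map_one]
    have hnc : ∃ g : G, (g : G ⧸ V) ∈ zpowers x' ∧ ∃ v ∈ V, g * v ≠ v * g := by
      obtain ⟨g, hg⟩ := QuotientGroup.mk_surjective x'
      refine ⟨g, by rw [hg]; exact mem_zpowers _, ?_⟩
      by_contra hcon
      push Not at hcon
      have h1 := hCV g hcon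
      rw [(QuotientGroup.eq_one_iff g).2 h1] at hg
      rw [← hg, orderOf_one] at hox
      norm_num at hox
    obtain ⟨g, hg⟩ := OrdMod.exists_order_eight V hVc hVr Nat.prime_five (by norm_num) hox hoy hyx hfix' hnc
    have h8 : (8 : ℕ) ∈ CoS G := ⟨⟨g, hg⟩, by norm_num, by norm_num⟩
    obtain ⟨⟨x, hx⟩, -⟩ := hcos h8
    exact no_eight hK x hx

end Cfsg.Agent.H514.OC.Sz
end
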