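import Cfsg.Agent.H493.PGCount_m3
import Cfsg.Agent.LFourR.Mat2
import Cfsg.Agent.S0803
import Cfsg.Agent.H514.OrdJ1
import Cfsg.Agent.S2475
import Cfsg.Agent.S0243
import Cfsg.Agent.H514.OrdSpor
import Cfsg.Agent.H514.OrdExc
import Cfsg.Agent.H514.OrdSz
import Cfsg.Agent.H514.OrdL34
import Cfsg.Agent.H493.PGRows2_mg
import Cfsg.Agent.S0252
import Cfsg.Agent.S0254
import Cfsg.Agent.S0255
import Cfsg.Agent.S1159
import Cfsg.Agent.H803.RankOneFacts
import Cfsg.Agent.H85.RelStr_m3
import Cfsg.Agent.S0204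
import Cfsg.Agent.S0205
import Cfsg.Agent.Prune
set_option linter.all false
prune_inst 0x7f00000000000000000000000000000000000000000000000000000000000000000000000000000000000000000000000000000000000000000000000000000000000000000000000000000000000000003fffffffffffffffffffffffffffbeffbdffffffff
open scoped Cfsg.Agent.FastGrp

-- part: H514/OrdPslConj
section
/-!
# Conjugacy in `PSL(2, q)` of elements with lifts of equal trace
-/

set_option autoImplicit false
set_option linter.style.haveILetI false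

namespace Cfsg.Agent.H514.OC.Psl2

open Matrix Cfsg.Agent.ClassicalGeometry

variable {F : Type*} [Field F]

/-- the group -/
abbrev PSL2 (F : Type*) [Field F] := Matrix.ProjectiveSpecialLinearGroup (Fin 2) F

/-- `x` has a non-scalar lift of trace `τ`. -/
def Lift (τ : F) (x : PSL2 F) : Prop :=
  ∃ A : Matrix.SpecialLinearGroup (Fin 2) F, (QuotientGroup.mk A : PSL2 F) = x ∧
    (∀ c : F, A.1 ≠ c • (1 : Matrix (Fin 2) (Fin 2) F)) ∧ A.1.trace = τ

theorem conj_of_sq {A B : Matrix.SpecialLinearGroup (Fin 2) F} {C : Matrix (Fin 2) (Fin 2) F} {P Q : GL (Fin 2) F}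
    (hP : A.1 * P.1 = P.1 * C) (hQ : B.1 * Q.1 = Q.1 * C) {d : F} (hd : P.1.det = d ^ 2 * Q.1.det) :
    ∃ M : Matrix.SpecialLinearGroup (Fin 2) F, A = M * B * M⁻¹ := by
  have hP0 : P.1.det ≠ 0 := ((Matrix.isUnit_iff_isUnit_det _).1 P.isUnit).ne_zero
  have hQ0 : Q.1.det ≠ 0 := ((Matrix.isUnit_iff_isUnit_det _).1 Q.isUnit).ne_zero
  have hd0 : d ≠ 0 := by
    rintro rfl
    apply hP0
    rw [hd]; ring
  have hQu : IsUnit Q.1.det := isUnit_iff_ne_zero.2 hQ0
  let N : Matrix (Fin 2) (Fin 2) F := d⁻¹ • (P.1 * Q.1⁻¹)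
  have hN : N.det = 1 := by
    rw [det_smul, Fintype.card_fin, det_mul, hd, Matrix.det_nonsing_inv, Ring.inverse_eq_inv']
    field_simp
  have hAN : A.1 * N = N * B.1 := by
    have h1 : B.1 = Q.1 * C * Q.1⁻¹ := by
      rw [← hQ, mul_assoc, Matrix.mul_nonsing_inv _ hQu, mul_one]
    rw [h1, Matrix.mul_smul, Matrix.smul_mul, ← mul_assoc, hP]
    congr 1
    rw [mul_assoc P.1 Q.1⁻¹, ← mul_assoc Q.1⁻¹, ← mul_assoc Q.1⁻¹, Matrix.nonsing_inv_mul _ hQu, one_mul, mul_assoc]
  let M : Matrix.SpecialLinearGroup (Fin 2) F := ⟨N, hN⟩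
  have hM : A * M = M * B := Subtype.ext hAN
  exact ⟨M, eq_mul_inv_iff_mul_eq.2 hM⟩

theorem lift_conj_of_sq {x y : PSL2 F} {A B : Matrix.SpecialLinearGroup (Fin 2) F}
    (hx : (QuotientGroup.mk A : PSL2 F) = x) (hy : (QuotientGroup.mk B : PSL2 F) = y)
    (h : ∃ M : Matrix.SpecialLinearGroup (Fin 2) F, A = M * B * M⁻¹) : ∃ m : PSL2 F, x = m * y * m⁻¹ := by
  obtain ⟨M, rfl⟩ := h
  exact ⟨QuotientGroup.mk M, by rw [← hx, ← hy]; rfl⟩

theorem three_sq [Fintype F] {a b c : F} (ha : a ≠ 0) (hb : b ≠ 0) (hc : c ≠ 0) :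
    (∃ d, a = d ^ 2 * b) ∨ (∃ d, b = d ^ 2 * c) ∨ (∃ d, c = d ^ 2 * a) := by
  have key : ∀ {x y : F}, y ≠ 0 → IsSquare (x / y) → ∃ d, x = d ^ 2 * y := by
    intro x y hy ⟨d, hd⟩
    refine ⟨d, ?_⟩
    rw [pow_two, ← hd, div_mul_cancel₀ _ hy]
  by_cases h2 : ringChar F = 2
  · exact Or.inl (key hb (FiniteField.isSquare_of_char_two h2 _))
  · rcases FiniteField.pow_dichotomy h2 (div_ne_zero ha hb) with h | h
    · exact Or.inl (key hb ((FiniteField.isSquare_iff h2 (div_ne_zero ha hb)).2 h))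
    rcases FiniteField.pow_dichotomy h2 (div_ne_zero hb hc) with h' | h'
    · exact Or.inr (Or.inl (key hc ((FiniteField.isSquare_iff h2 (div_ne_zero hb hc)).2 h')))
    right; right
    apply key ha
    rw [FiniteField.isSquare_iff h2 (div_ne_zero hc ha)]
    have h3 : c / a = ((a / b) * (b / c))⁻¹ := by field_simp
    rw [h3, inv_pow, mul_pow, h, h']
    norm_num

/-- Of three elements with lifts of equal trace two are conjugate. -/
theorem conj_or [Fintype F] {τ : F} {x y z : PSL2 F} (hx : Lift τ x) (hy : Lift τ y) (hz : Lift τ z) :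
    (∃ m : PSL2 F, x = m * y * m⁻¹) ∨ (∃ m : PSL2 F, y = m * z * m⁻¹) ∨ (∃ m : PSL2 F, z = m * x * m⁻¹) := by
  obtain ⟨A, hA, hA1, hA2⟩ := hx
  obtain ⟨B, hB, hB1, hB2⟩ := hy
  obtain ⟨C, hC, hC1, hC2⟩ := hz
  obtain ⟨P, hP⟩ := LFourR.FieldPart.exists_conj_comp A hA1
  obtain ⟨Q, hQ⟩ := LFourR.FieldPart.exists_conj_comp B hB1
  obtain ⟨R, hR⟩ := LFourR.FieldPart.exists_conj_comp C hC1
  rw [hA2] at hP
  rw [hB2] at hQ
  rw [hC2] at hR
  have h0 : ∀ X : GL (Fin 2) F, X.1.det ≠ 0 := fun X => ((Matrix.isUnit_iff_isUnit_det _).1 X.isUnit).ne_zero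
  rcases three_sq (h0 P) (h0 Q) (h0 R) with ⟨d, hd⟩ | ⟨d, hd⟩ | ⟨d, hd⟩
  · exact Or.inl (lift_conj_of_sq hA hB (conj_of_sq hP hQ hd))
  · exact Or.inr (Or.inl (lift_conj_of_sq hB hC (conj_of_sq hQ hR hd)))
  · exact Or.inr (Or.inr (lift_conj_of_sq hC hA (conj_of_sq hR hP hd)))

/-- In characteristic 2 elements with lifts of equal trace are conjugate. -/
theorem conj_even [Fintype F] (h2 : ringChar F = 2) {τ : F} {x y : PSL2 F} (hx : Lift τ x) (hy : Lift τ y) :
    ∃ m : PSL2 F, x = m * y * m⁻¹ := by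
  obtain ⟨A, hA, hA1, hA2⟩ := hx
  obtain ⟨B, hB, hB1, hB2⟩ := hy
  obtain ⟨P, hP⟩ := LFourR.FieldPart.exists_conj_comp A hA1
  obtain ⟨Q, hQ⟩ := LFourR.FieldPart.exists_conj_comp B hB1
  rw [hA2] at hP
  rw [hB2] at hQ
  have h0 : ∀ X : GL (Fin 2) F, X.1.det ≠ 0 := fun X => ((Matrix.isUnit_iff_isUnit_det _).1 X.isUnit).ne_zero
  obtain ⟨d, hd⟩ := FiniteField.isSquare_of_char_two h2 (P.1.det / Q.1.det)
  exact lift_conj_of_sq hA hB (conj_of_sq hP hQ (d := d) (by rw [pow_two, ← hd, div_mul_cancel₀ _ (h0 Q)]))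

theorem exists_scalar_of_pow {A : Matrix.SpecialLinearGroup (Fin 2) F} {n : ℕ}
    (h : (QuotientGroup.mk A : PSL2 F) ^ n = 1) : ∃ c : F, A.1 ^ n = c • (1 : Matrix (Fin 2) (Fin 2) F) ∧ c ^ 2 = 1 := by
  rw [← QuotientGroup.mk_pow, QuotientGroup.eq_one_iff, PSL2Trace.mem_center_iff_exists] at h
  obtain ⟨c, hc⟩ := h
  replace hc : A.1 ^ n = c • (1 : Matrix (Fin 2) (Fin 2) F) := (LFourR.FieldPart.val_pow A n).symm.trans hc
  refine ⟨c, hc, ?_⟩
  have h1 : (A.1 ^ n).det = 1 := by rw [det_pow, A.2, one_pow]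
  rw [hc, det_smul, det_one, mul_one, Fintype.card_fin] at h1
  exact h1

theorem not_scalar {A : Matrix.SpecialLinearGroup (Fin 2) F} (h : (QuotientGroup.mk A : PSL2 F) ≠ 1) :
    ∀ c : F, A.1 ≠ c • (1 : Matrix (Fin 2) (Fin 2) F) := by
  intro c hc
  exact h ((QuotientGroup.eq_one_iff A).2 (PSL2Trace.mem_center_iff_exists.2 ⟨c, hc⟩))

theorem smul_eq_zero_of {A : Matrix.SpecialLinearGroup (Fin 2) F}
    (hA : ∀ c : F, A.1 ≠ c • (1 : Matrix (Fin 2) (Fin 2) F)) {a b : F}
    (h : a • A.1 = b • (1 : Matrix (Fin 2) (Fin 2) F)) : a = 0 := by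
  by_contra ha
  apply hA (a⁻¹ * b)
  rw [mul_smul, ← h, smul_smul, inv_mul_cancel₀ ha, one_smul]

theorem lift_two {x : PSL2 F} (hx : orderOf x = 2) : Lift 0 x := by
  obtain ⟨A, rfl⟩ := QuotientGroup.mk_surjective x
  have h1 : (QuotientGroup.mk A : PSL2 F) ^ 2 = 1 := by
    have := pow_orderOf_eq_one (QuotientGroup.mk A : PSL2 F)
    rwa [hx] at this
  have hne : (QuotientGroup.mk A : PSL2 F) ≠ 1 := by
    intro h
    rw [h, orderOf_one] at hx
    norm_num at hx
  obtain ⟨c, hc, -⟩ := exists_scalar_of_pow h1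
  have hns := not_scalar hne
  refine ⟨A, rfl, hns, ?_⟩
  rw [PSL2Trace.coe_sq] at hc
  apply smul_eq_zero_of hns (b := c + 1)
  rw [add_smul, one_smul, ← hc, sub_add_cancel]

theorem lift_three (h2 : (2 : F) = 0) {x : PSL2 F} (hx : orderOf x = 3) : Lift 1 x := by
  obtain ⟨A, rfl⟩ := QuotientGroup.mk_surjective x
  have h1 : (QuotientGroup.mk A : PSL2 F) ^ 3 = 1 := by
    have := pow_orderOf_eq_one (QuotientGroup.mk A : PSL2 F)
    rwa [hx] at this
  have hne : (QuotientGroup.mk A : PSL2 F) ≠ 1 := by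
    intro h
    rw [h, orderOf_one] at hx
    norm_num at hx
  obtain ⟨c, hc, -⟩ := exists_scalar_of_pow h1
  have hns := not_scalar hne
  refine ⟨A, rfl, hns, ?_⟩
  set t := A.1.trace with ht
  have h3 : A.1 ^ 3 = (t ^ 2 - 1) • A.1 - t • (1 : Matrix (Fin 2) (Fin 2) F) := by
    rw [pow_succ, PSL2Trace.coe_sq, sub_mul, Matrix.smul_mul, ← pow_two, PSL2Trace.coe_sq, ← ht, smul_sub, smul_smul,
      one_mul, sub_smul, one_smul, ← pow_two]
    abel
  have h4 : t ^ 2 - 1 = 0 := by
    apply smul_eq_zero_of hns (b := c + t)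
    rw [add_smul, ← hc, h3]
    abel
  have h5 : (t - 1) ^ 2 = 0 := by
    have : (t - 1) ^ 2 = (t ^ 2 - 1) + 2 * (1 - t) := by ring
    rw [this, h4, h2]; ring
  have h6 := pow_eq_zero_iff (two_ne_zero) |>.1 h5
  exact sub_eq_zero.1 h6

theorem lift_char {p : ℕ} [hp : Fact p.Prime] [CharP F p] (hp2 : p ≠ 2) {x : PSL2 F} (hx : orderOf x = p) :
    Lift 2 x := by
  obtain ⟨A, rfl⟩ := QuotientGroup.mk_surjective x
  have h1 : (QuotientGroup.mk A : PSL2 F) ^ p = 1 := by
    have := pow_orderOf_eq_one (QuotientGroup.mk A : PSL2 F)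
    rwa [hx] at this
  have hne : (QuotientGroup.mk A : PSL2 F) ≠ 1 := by
    intro h
    rw [h, orderOf_one] at hx
    exact hp.out.ne_one hx.symm
  obtain ⟨c, hc, hc2⟩ := exists_scalar_of_pow h1
  have hns := not_scalar hne
  have hodd : Odd p := hp.out.odd_of_ne_two hp2
  have hcp : c ^ p = c := by
    obtain ⟨k, hk⟩ := hodd
    rw [hk, pow_succ, pow_mul, hc2, one_pow, one_mul]
  have hnil : IsNilpotent (A.1 - c • (1 : Matrix (Fin 2) (Fin 2) F)) := by
    refine ⟨p, ?_⟩
    have hcomm : Commute A.1 (c • (1 : Matrix (Fin 2) (Fin 2) F)) := by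
      show A.1 * (c • 1) = (c • 1) * A.1
      rw [Matrix.mul_smul, Matrix.smul_mul, one_mul, mul_one]
    rw [sub_pow_char_of_commute p hcomm, hc, smul_pow, one_pow, hcp, sub_self]
  have htr : A.1.trace = 2 * c := by
    have h3 := (Matrix.isNilpotent_trace_of_isNilpotent hnil).eq_zero
    rw [trace_sub, trace_smul, trace_one, Fintype.card_fin, smul_eq_mul] at h3
    have : A.1.trace = c * ((2 : ℕ) : F) := sub_eq_zero.1 h3
    rw [this]; push_cast; ring
  -- the other lift
  have hcc : c = 1 ∨ c = -1 := by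
    have h3 : (c - 1) * (c + 1) = 0 := by linear_combination hc2
    rcases mul_eq_zero.1 h3 with h | h
    · exact Or.inl (sub_eq_zero.1 h)
    · exact Or.inr (eq_neg_of_add_eq_zero_left h)
  rcases hcc with rfl | rfl
  · exact ⟨A, rfl, hns, by rw [htr]; ring⟩
  · refine ⟨-A, ?_, ?_, ?_⟩
    · have h5 : (-A) = (-1) * A := by rw [neg_mul, one_mul]
      rw [h5, QuotientGroup.mk_mul, PSL2Trace.mk_neg_one, one_mul]
    · intro c h
      apply hns (-c)
      have h6 : (-A).1 = -A.1 := SpecialLinearGroup.coe_neg A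
      rw [h6] at h
      rw [neg_smul, ← h, neg_neg]
    · have h6 : (-A).1 = -A.1 := SpecialLinearGroup.coe_neg A
      rw [h6, trace_neg, htr]; ring

end Cfsg.Agent.H514.OC.Psl2
end

-- part: H514/OrdPsl2
section
/-!
# The groups `PSL(2, q)` and their automorphism groups
-/

set_option autoImplicit false
set_option linter.style.haveILetI false

namespace Cfsg.Agent.H514.OC.Psl2

open Matrix Cfsg.Agent.ClassicalGeometry Subgroup Cfsg.Agent.H493.PG

universe u v

section

variable {F : Type} [Field F] [Fintype F] {p : ℕ} [hp : Fact p.Prime] [CharP F p]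

/-- the three numbers -/
def cls (F : Type) [Fintype F] (p : ℕ) : Fin 3 → ℕ :=
  ![p, (Fintype.card F - 1) / Nat.gcd 2 (Fintype.card F - 1), (Fintype.card F + 1) / Nat.gcd 2 (Fintype.card F - 1)]

theorem mem_range_iff (h4 : 4 ≤ Fintype.card F) {K : Type*} [Group K] (e : K ≃* PSL2 F) {m : ℕ} :
    m ∈ Set.range (fun g : K => orderOf g) ↔ ∃ i, m ∣ cls F p i := by
  have h1 := Cfsg.Agent.S2475.result (F := F) p h4
  have h2 : m ∈ Set.range (fun g : K => orderOf g) ↔
      m ∈ Set.range (orderOf : Matrix.ProjectiveSpecialLinearGroup (Fin 2) F → ℕ) := by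
    constructor
    · rintro ⟨g, rfl⟩
      exact ⟨e g, MulEquiv.orderOf_eq e g⟩
    · rintro ⟨g, rfl⟩
      exact ⟨e.symm g, MulEquiv.orderOf_eq e.symm g⟩
  rw [h2, h1, Set.mem_ofPred_eq]
  constructor
  · rintro (h | h | h)
    · exact ⟨0, h⟩
    · exact ⟨1, h⟩
    · exact ⟨2, h⟩
  · rintro ⟨i, h⟩
    fin_cases i
    · exact Or.inl h
    · exact Or.inr (Or.inl h)
    · exact Or.inr (Or.inr h)

theorem cover (h4 : 4 ≤ Fintype.card F) {K : Type*} [Group K] [Finite K] (e : K ≃* PSL2 F) {r : ℕ} (hr : r.Prime)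
    (hd : r ∣ Nat.card K) : ∃ i, r ∣ cls F p i := by
  haveI := Fact.mk hr
  obtain ⟨g, hg⟩ := exists_prime_orderOf_dvd_card' (G := K) r hd
  exact (mem_range_iff h4 e).1 ⟨g, hg⟩

theorem clique (h4 : 4 ≤ Fintype.card F) {K : Type*} [Group K] [Finite K] (e : K ≃* PSL2 F) (i : Fin 3) {r s : ℕ}
    (hr : r.Prime) (hs : s.Prime) (h1 : r ∣ cls F p i) (h2 : s ∣ cls F p i) : Conn K r s := by
  by_cases hrs : r = s
  · rw [hrs]; exact Conn.refl s
  · have h3 : r * s ∣ cls F p i := ((Nat.coprime_primes hr hs).2 hrs).mul_dvd_of_dvd_of_dvd h1 h2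
    obtain ⟨g, hg⟩ := (mem_range_iff (p := p) h4 e).2 ⟨i, h3⟩
    exact Rel.conn ⟨hr, hs, hrs, g, hg⟩

omit hp [CharP F p] in
theorem few_four (p : ℕ) [Fact p.Prime] [CharP F p] (h4 : 4 ≤ Fintype.card F) {K : Type*} [Group K] [Finite K]
    (e : K ≃* PSL2 F) : Few 4 K :=
  few_of_cliques 3 (fun i r => r ∣ cls F p i) (fun _ hr hd => cover h4 e hr hd)
    (fun i _ _ hr hs _ _ h1 h2 => clique h4 e i hr hs h1 h2)

/-- even characteristic -/
theorem cls_even (h2 : p = 2) : cls F p = ![2, Fintype.card F - 1, Fintype.card F + 1] ∧ Odd (Fintype.card F - 1) ∧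
    Odd (Fintype.card F + 1) := by
  subst h2
  obtain ⟨n, hn, hc⟩ := FiniteField.card F 2
  have hn0 : (n : ℕ) ≠ 0 := n.ne_zero
  have hev : Even (Fintype.card F) := by
    rw [hc]; exact (Nat.even_pow.2 ⟨even_two, hn0⟩)
  have hq1 : 1 < Fintype.card F := Fintype.one_lt_card
  have hodd : Odd (Fintype.card F - 1) := Nat.Even.sub_odd hq1.le hev odd_one
  have hg : Nat.gcd 2 (Fintype.card F - 1) = 1 := by
    rw [Nat.Coprime.gcd_eq_one]
    exact (Nat.coprime_two_left).2 hodd
  refine ⟨?_, hodd, hev.add_one⟩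
  unfold cls
  rw [hg, Nat.div_one, Nat.div_one]

omit hp in
/-- odd characteristic -/
theorem cls_odd (h2 : p ≠ 2) : ∃ u : ℕ, Fintype.card F = 2 * u + 1 ∧ cls F p = ![p, u, u + 1] ∧
    Nat.gcd 2 (Fintype.card F - 1) = 2 := by
  have hrc : ringChar F ≠ 2 := by
    intro h
    exact h2 ((ringChar.eq_iff.1 h).eq F ‹CharP F p›).symm
  obtain ⟨u, hu⟩ : Odd (Fintype.card F) := Nat.odd_iff.2 (FiniteField.odd_card_of_char_ne_two hrc)
  have hg : Nat.gcd 2 (Fintype.card F - 1) = 2 := by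
    rw [hu, Nat.add_sub_cancel]
    exact Nat.gcd_eq_left (Dvd.intro _ rfl)
  refine ⟨u, hu, ?_, hg⟩
  unfold cls
  rw [hg, hu, Nat.add_sub_cancel, Nat.mul_div_cancel_left _ (by norm_num),
    show 2 * u + 1 + 1 = 2 * (u + 1) by ring, Nat.mul_div_cancel_left _ (by norm_num)]

omit hp [CharP F p] in
theorem two_mem (p : ℕ) [Fact p.Prime] [CharP F p] (h4 : 4 ≤ Fintype.card F) {K : Type*} [Group K]
    (e : K ≃* PSL2 F) : ∃ x : K, orderOf x = 2 := by
  apply (mem_range_iff (p := p) h4 e).2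
  by_cases h2 : p = 2
  · exact ⟨0, by rw [(cls_even h2).1]; exact dvd_rfl⟩
  · obtain ⟨u, hu, hc, -⟩ := cls_odd (F := F) h2
    rw [hc]
    rcases Nat.even_or_odd u with h | h
    · exact ⟨1, h.two_dvd⟩
    · exact ⟨2, h.add_one.two_dvd⟩

theorem not_eight_dvd (h4 : 4 ≤ Fintype.card F) {K : Type*} [Group K] [Finite K] (e : K ≃* PSL2 F)
    (hot : OtS K = ∅) (h2 : p ≠ 2) : ¬ 8 ∣ Nat.card K := by
  obtain ⟨u, hu, hc, hg⟩ := cls_odd (F := F) h2
  have hno : ∀ i, ¬ 4 ∣ cls F p i := by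
    intro i hi
    obtain ⟨g, hg⟩ := (mem_range_iff (p := p) h4 e).2 ⟨i, hi⟩
    exact not_sq_dvd hot g Nat.prime_two (by rw [show (2 * 2 : ℕ) = 4 by norm_num]; exact hg ▸ dvd_rfl)
  rw [hc] at hno
  have h5 : ¬ 4 ∣ u := hno 1
  have h6 : ¬ 4 ∣ u + 1 := hno 2
  have h7 := S0243.result (F := F) rfl 2 le_rfl
  rw [hg, Fin.prod_univ_two, ← Nat.card_congr e.toEquiv] at h7
  simp only [Fin.val_zero, Fin.val_one, pow_zero, pow_one] at h7
  have hu0 : 0 < u := by omega
  have h8 : Nat.card K = Fintype.card F * (2 * (u * (u + 1))) := by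
    rw [hu] at h7 ⊢
    have h9 : (2 * u + 1) ^ 2 - 1 = 4 * (u * (u + 1)) := by
      have : (2 * u + 1) ^ 2 = 4 * (u * (u + 1)) + 1 := by ring
      omega
    have h10 : (2 * u + 1) ^ 2 - (2 * u + 1) = (2 * u + 1) * (2 * u) := by
      have : (2 * u + 1) ^ 2 = (2 * u + 1) * (2 * u) + (2 * u + 1) := by ring
      omega
    rw [h9, h10, Nat.add_sub_cancel] at h7
    have h11 : (4 * u) * Nat.card K = (4 * u) * ((2 * u + 1) * (2 * (u * (u + 1)))) := by
      linarith only [h7]
    exact Nat.eq_of_mul_eq_mul_left (by omega) h11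
  intro h9
  rw [h8, hu] at h9
  have h10 : Nat.Coprime 8 (2 * u + 1) := by
    rw [show (8 : ℕ) = 2 ^ 3 by norm_num]
    exact Nat.Coprime.pow_left _ (Nat.coprime_two_left.2 ⟨u, rfl⟩)
  have h11 := h10.dvd_of_dvd_mul_left h9
  have h12 : 4 ∣ u * (u + 1) := by
    obtain ⟨c, hc⟩ := h11
    exact ⟨c, by omega⟩
  rcases Nat.even_or_odd u with h | h
  · have : Nat.Coprime 4 (u + 1) := by
      rw [show (4 : ℕ) = 2 ^ 2 by norm_num]
      exact Nat.Coprime.pow_left _ (Nat.coprime_two_left.2 h.add_one)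
    exact h5 (this.dvd_of_dvd_mul_right h12)
  · have : Nat.Coprime 4 u := by
      rw [show (4 : ℕ) = 2 ^ 2 by norm_num]
      exact Nat.Coprime.pow_left _ (Nat.coprime_two_left.2 h)
    exact h6 (this.dvd_of_dvd_mul_left h12)

omit hp [CharP F p] in
/-- **Modules for `PSL(2, q)`.** -/
theorem modOK (p : ℕ) [Fact p.Prime] [CharP F p] (h4 : 4 ≤ Fintype.card F) {K : Type v} [Group K] [Finite K]
    [IsSimpleGroup K] (hna : ¬ IsMulCommutative K) (e : K ≃* PSL2 F) (hot : OtS K = ∅) : ModOK.{u, v} K := by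
  classical
  haveI : Fact (Nat.Prime 2) := ⟨Nat.prime_two⟩
  have h2 := two_mem p h4 e
  have hno4 : ∀ x : K, orderOf x ≠ 4 := fun x hx =>
    not_sq_dvd hot x Nat.prime_two (by rw [hx])
  refine ⟨?_, fun G _ _ V _ _ _ hVr hCV he hcos => two_of_no_four h2 hno4 G V hVr hCV he hcos⟩
  have h2d : 2 ∣ Nat.card K := by
    obtain ⟨x, hx⟩ := h2
    rw [← hx]; exact _root_.orderOf_dvd_natCard x
  obtain ⟨S⟩ : Nonempty (Sylow 2 K) := inferInstance
  obtain ⟨y, l, hl, hl2, hy, hyS, hnc⟩ := exists_burnside hna h2d hot S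
  have hsq := sq_eq_one hot S.2
  obtain ⟨E, hES, hE1, hyE, hfix, hlE⟩ := act_of_normalizer (S : Subgroup K) hsq hl hl2 hy hyS hnc
  have hE2 : IsPGroup 2 E := S.2.to_le hES
  refine ⟨E, y, l, hE2, hE1, hl, hl2, hy, hyE, hfix, ?_⟩
  intro r hr hr2 hrd h2r hlr hrr
  have hrl : r ≠ l := by
    rintro rfl
    obtain ⟨g, hg⟩ := hrr rfl
    exact not_sq_dvd hot g hr (by rw [hg])
  by_cases hp2 : p = 2
  · obtain ⟨i, hi⟩ := (mem_range_iff (p := p) h4 e).1 h2r
    obtain ⟨hc, ho1, ho2⟩ := cls_even (F := F) hp2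
    rw [hc] at hi
    fin_cases i
    · have h5 : 2 * r ≤ 2 := Nat.le_of_dvd (by norm_num) hi
      have := hr.two_le
      omega
    · exact (Nat.not_even_iff_odd.2 ho1) (even_iff_two_dvd.2 ((Dvd.intro _ rfl).trans hi))
    · exact (Nat.not_even_iff_odd.2 ho2) (even_iff_two_dvd.2 ((Dvd.intro _ rfl).trans hi))
  · -- `l = 3`
    have h8 := not_eight_dvd (p := p) h4 e hot hp2
    have hl3 : l = 3 := by
      obtain ⟨j, hj⟩ := IsPGroup.iff_card.1 hE2
      have hj2 : j ≤ 2 := by
        by_contra hcon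
        apply h8
        have h9 : 2 ^ 3 ∣ Nat.card E := by rw [hj]; exact pow_dvd_pow 2 (by omega)
        exact (by norm_num : (8 : ℕ) ∣ 2 ^ 3).trans (h9.trans E.card_subgroup_dvd_card)
      have hj0 : j ≠ 0 := by
        rintro rfl
        rw [pow_zero, Subgroup.card_eq_one] at hj
        exact hE1 hj
      rw [hj] at hlE
      have h9 : j = 1 ∨ j = 2 := by omega
      rcases h9 with rfl | rfl
      · exact absurd (Nat.dvd_one.1 hlE) hl.ne_one
      · exact (Nat.prime_dvd_prime_iff_eq hl Nat.prime_three).1 hlE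
    subst hl3
    obtain ⟨u, hu, hc, hg⟩ := cls_odd (F := F) hp2
    obtain ⟨i, hi⟩ := (mem_range_iff (p := p) h4 e).1 h2r
    obtain ⟨j, hj⟩ := (mem_range_iff (p := p) h4 e).1 (hlr hrl)
    rw [hc] at hi hj
    have hpp := (Fact.out : p.Prime)
    have hcop : Nat.Coprime u (u + 1) := by simp
    have key : ∀ n : ℕ, (∃ i, n = (![p, u, u + 1] : Fin 3 → ℕ) i) → 2 * r ∣ n → 3 * r ∣ n → False := by
      rintro n ⟨i, hn⟩ h5 h6
      have h7 : 2 * 3 ∣ n := by
        exact (by norm_num : Nat.Coprime 2 3).mul_dvd_of_dvd_of_dvd ((Dvd.intro _ rfl).trans h5) ((Dvd.intro _ rfl).trans h6)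
      have h9 : (2 * 3).Coprime r := by
        rw [Nat.coprime_comm]
        exact ((Nat.coprime_primes hr Nat.prime_two).2 hr2).mul_right ((Nat.coprime_primes hr Nat.prime_three).2 hrl)
      have h10 : 2 * 3 * r ∣ n := h9.mul_dvd_of_dvd_of_dvd h7 ((Dvd.intro_left _ rfl).trans h5)
      have h10' : 2 * 3 * r ∣ cls F p i := by rw [hc, ← hn]; exact h10
      obtain ⟨g, hg⟩ := (mem_range_iff (p := p) h4 e).2 ⟨i, h10'⟩
      have h11 : 2 * 3 * r ∈ OtS K := by
        refine ⟨⟨⟨g, hg⟩, by have := hr.two_le; omega, Nat.not_prime_mul (by norm_num) hr.ne_one⟩, ?_⟩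
        rintro ⟨a, b, ha, hb, hab, h12⟩
        have h13 : 2 ∣ a * b := by rw [← h12]; exact ⟨3 * r, by ring⟩
        have h14 : ∀ a b : ℕ, b.Prime → 2 * 3 * r = a * b → a = 2 → False := by
          rintro a b hb h12 rfl
          have h15 : 3 * r = b := by
            have : 2 * (3 * r) = 2 * b := by rw [← h12]; ring
            exact Nat.eq_of_mul_eq_mul_left (by norm_num) this
          rw [← h15] at hb
          exact Nat.not_prime_mul (by norm_num) hr.ne_one hb
        rcases Nat.prime_two.dvd_mul.1 h13 with h | h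
        · exact h14 a b hb h12 ((Nat.prime_dvd_prime_iff_eq Nat.prime_two ha).1 h).symm
        · exact h14 b a ha (by rw [h12, mul_comm]) ((Nat.prime_dvd_prime_iff_eq Nat.prime_two hb).1 h).symm
      rw [hot] at h11
      exact h11
    have hnp : ∀ a : ℕ, 2 ≤ a → a * r ∣ p → False := by
      intro a ha h5
      rcases (Nat.dvd_prime hpp).1 h5 with h | h
      · have := hr.two_le
        nlinarith only [ha, h, this]
      · rw [← h] at hpp
        exact Nat.not_prime_mul (by omega) hr.ne_one hpp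
    have hrdi : r ∣ (![p, u, u + 1] : Fin 3 → ℕ) i := (Dvd.intro_left _ rfl).trans hi
    have hrdj : r ∣ (![p, u, u + 1] : Fin 3 → ℕ) j := (Dvd.intro_left _ rfl).trans hj
    have hcc : r ∣ u → r ∣ u + 1 → False := fun h5 h6 => by
      have h7 : r ∣ 1 := (Nat.dvd_add_right h5).1 h6
      exact hr.ne_one (Nat.dvd_one.1 h7)
    fin_cases i <;> fin_cases j
    · exact hnp 2 le_rfl hi
    · exact hnp 2 le_rfl hi
    · exact hnp 2 le_rfl hi
    · exact hnp 3 (by norm_num) hj
    · exact key u ⟨1, rfl⟩ hi hj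
    · exact hcc hrdi hrdj
    · exact hnp 3 (by norm_num) hj
    · exact hcc hrdj hrdi
    · exact key (u + 1) ⟨2, rfl⟩ hi hj

/-- Fusion in groups with a normal subgroup `PSL(2, q)`. -/
theorem fused {G : Type*} [Group G] [Finite G] (S : Subgroup G) [hS : S.Normal] (e : S ≃* PSL2 F) {u : G} (hu : u ∈ S)
    {τ : F} (hL : ∀ x : S, orderOf x = orderOf u → Lift τ (e x)) (h : ringChar F = 2 ∨ Odd S.index) :
    ∀ g : G, ∃ s ∈ S, g * u * g⁻¹ = s * u * s⁻¹ := by
  have hmem : ∀ g : G, g * u * g⁻¹ ∈ S := fun g => hS.conj_mem u hu g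
  have hord : ∀ g : G, orderOf (⟨g * u * g⁻¹, hmem g⟩ : S) = orderOf u := by
    intro g
    rw [Subgroup.orderOf_mk]
    exact (MulAut.conj g).orderOf_eq u
  have back : ∀ {a b : G} (ha : a ∈ S) (hb : b ∈ S), (∃ m : PSL2 F, e ⟨a, ha⟩ = m * e ⟨b, hb⟩ * m⁻¹) →
      ∃ s ∈ S, a = s * b * s⁻¹ := by
    rintro a b ha hb ⟨m, hm⟩
    refine ⟨e.symm m, (e.symm m).2, ?_⟩
    have h1 : (⟨a, ha⟩ : S) = e.symm m * ⟨b, hb⟩ * (e.symm m)⁻¹ := by
      apply e.injective
      rw [map_mul, map_mul, map_inv, e.apply_symm_apply]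
      exact hm
    exact congrArg Subtype.val h1
  rcases h with h2 | hodd
  · intro g
    have hu' : orderOf (⟨u, hu⟩ : S) = orderOf u := Subgroup.orderOf_mk _ _
    exact back (hmem g) hu (conj_even h2 (hL _ (hord g)) (hL _ hu'))
  · apply fused_of_two S hodd
    rintro a b c ⟨g1, rfl⟩ ⟨g2, rfl⟩ ⟨g3, rfl⟩
    rcases conj_or (hL _ (hord g1)) (hL _ (hord g2)) (hL _ (hord g3)) with h | h | h
    · exact Or.inl (back (hmem g1) (hmem g2) h)
    · exact Or.inr (Or.inl (back (hmem g2) (hmem g3) h))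
    · exact Or.inr (Or.inr (back (hmem g3) (hmem g1) h))

omit hp [CharP F p] in
/-- **Almost simple groups with socle `PSL(2, q)`.** -/
theorem almost_false
    (hinv : ∀ (K : Type u) [Group K] [Finite K] [IsSimpleGroup K], ¬ IsMulCommutative K →
      ∀ r : ℕ, r.Prime → r ≠ 2 → ¬ r ∣ Nat.card K → ∀ x : MulAut K, x ^ r = 1 → ∃ g : K, orderOf g = 2 ∧ x g = g)
    (p : ℕ) [hp : Fact p.Prime] [CharP F p] (h4 : 4 ≤ Fintype.card F) {G : Type u} [Group G] [Finite G]
    (S : Subgroup G) [hSn : S.Normal] (hSs : IsSimpleGroup S) (hSna : ¬ IsMulCommutative S)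
    (hC : centralizer (S : Set G) = ⊥) (htop : S ≠ ⊤) (e : S ≃* PSL2 F) (hot : OtS G = ∅) (hfew : ¬ Few 3 G)
    (hE : ∃ E : Subgroup S, IsKleinFour E) : False := by
  classical
  have h2S := two_mem p h4 e
  have h2d : 2 ∣ Nat.card S := by
    obtain ⟨x, hx⟩ := h2S
    rw [← hx]; exact _root_.orderOf_dvd_natCard x
  have hidx : S.index ≠ 1 := fun h => htop (Subgroup.index_eq_one.1 h)
  obtain ⟨l, hl, hld⟩ := Nat.exists_prime_and_dvd hidx
  -- merging
  have merge : ∀ {i j : Fin 3}, i ≠ j → ∀ {r s : ℕ}, r.Prime → s.Prime → r ∣ cls F p i → s ∣ cls F p j →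
      Conn G r s → False := by
    intro i j hij r s hr hs hri hsj hrs
    have hd : ∀ {t : ℕ} {k : Fin 3}, t ∣ cls F p k → t ∣ Nat.card S := by
      intro t k h
      obtain ⟨g, hg⟩ := (mem_range_iff (p := p) h4 e).2 ⟨k, h⟩
      have hg' : orderOf g = t := hg
      rw [← hg']; exact _root_.orderOf_dvd_natCard g
    exact false_of_merge hinv 3 (by norm_num) G S hSs hSna (even_iff_two_dvd.2 h2d) hfew
      (fun i r => r ∣ cls F p i) (fun _ hr hd => cover h4 e hr hd)
      (fun i _ _ hr hs _ _ h1 h2 => clique h4 e i hr hs h1 h2) hij hr hs (hd hri) (hd hsj) hri hsj hrs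
  obtain ⟨x2, hx2⟩ := h2S
  have hx2' : orderOf (x2 : G) = 2 := by rw [Subgroup.orderOf_coe, hx2]
  have f2 : (ringChar F = 2 ∨ Odd S.index) → l ≠ 2 → _root_.Cfsg.Agent.H493.PG.Rel G l 2 := fun h hne =>
    rel_of_fusion S (fused S e x2.2 (τ := 0) (fun x hx => lift_two (by rw [MulEquiv.orderOf_eq, hx, hx2'])) h) hl hld
      Nat.prime_two hx2' hne
  by_cases hp2 : p = 2
  · subst hp2
    have hr2 : ringChar F = 2 := ringChar.eq F 2
    have h20 : (2 : F) = 0 := CharTwo.two_eq_zero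
    obtain ⟨hc, -, -⟩ := cls_even (F := F) (p := 2) rfl
    have h3c : ∃ j : Fin 3, j ≠ 0 ∧ 3 ∣ cls F 2 j := by
      rw [hc]
      obtain ⟨n, hn, hcc⟩ := FiniteField.card F 2
      have h3 : ¬ 3 ∣ Fintype.card F := by
        rw [hcc]
        intro h
        have := Nat.prime_three.dvd_of_dvd_pow h
        norm_num at this
      have h1 : 3 ∣ Fintype.card F - 1 ∨ 3 ∣ Fintype.card F + 1 := by omega
      rcases h1 with h | h
      · exact ⟨1, by decide, h⟩
      · exact ⟨2, by decide, h⟩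
    obtain ⟨j, hj0, hj⟩ := h3c
    obtain ⟨x3, hx3⟩ := (mem_range_iff (p := 2) h4 e).2 ⟨j, hj⟩
    have hx3' : orderOf (x3 : G) = 3 := by rw [Subgroup.orderOf_coe]; exact hx3
    have f3 : l ≠ 3 → _root_.Cfsg.Agent.H493.PG.Rel G l 3 := fun hne =>
      rel_of_fusion S (fused S e x3.2 (τ := 1) (fun x hx => lift_three h20 (by rw [MulEquiv.orderOf_eq, hx, hx3']))
        (Or.inl hr2)) hl hld Nat.prime_three hx3' hne
    have hconn : Conn G 2 3 := by
      by_cases hl2 : l = 2
      · subst hl2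
        exact (f3 (by norm_num)).conn
      · by_cases hl3 : l = 3
        · subst hl3
          exact (f2 (Or.inl hr2) hl2).symm.conn
        · exact (f2 (Or.inl hr2) hl2).symm.conn.trans (f3 hl3).conn
    exact merge (i := 0) (j := j) (Ne.symm hj0) Nat.prime_two Nat.prime_three (by rw [hc]; exact dvd_rfl) hj hconn
  · have hE' : ∃ E : Subgroup G, IsKleinFour E := by
      obtain ⟨E, hE⟩ := hE
      have e' : ↥E ≃* ↥(E.map S.subtype) := E.equivMapOfInjective S.subtype Subtype.val_injective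
      exact ⟨E.map S.subtype, by rw [← Nat.card_congr e'.toEquiv, hE.card_four], by
        rw [← Monoid.exponent_eq_of_mulEquiv e', hE.exponent_two]⟩
    have hodd : Odd S.index := (odd_index S hSs hSna hC hot hE').1
    have hl2 : l ≠ 2 := by
      rintro rfl
      exact (Nat.not_even_iff_odd.2 hodd) (even_iff_two_dvd.2 hld)
    obtain ⟨u, hu, hc, hg⟩ := cls_odd (F := F) hp2
    obtain ⟨xp, hxp⟩ := (mem_range_iff (p := p) h4 e).2 ⟨(0 : Fin 3), (dvd_rfl : p ∣ cls F p 0)⟩
    have hxp' : orderOf (xp : G) = p := by rw [Subgroup.orderOf_coe]; exact hxp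
    have fp : l ≠ p → _root_.Cfsg.Agent.H493.PG.Rel G l p := fun hne =>
      rel_of_fusion S (fused S e xp.2 (τ := 2) (fun x hx => lift_char hp2 (by rw [MulEquiv.orderOf_eq, hx, hxp']))
        (Or.inr hodd)) hl hld hp.out hxp' hne
    have hconn : Conn G p 2 := by
      by_cases hlp : l = p
      · subst hlp
        exact (f2 (Or.inr hodd) hl2).conn
      · exact (fp hlp).symm.conn.trans (f2 (Or.inr hodd) hl2).conn
    have h2c : ∃ j : Fin 3, j ≠ 0 ∧ 2 ∣ cls F p j := by
      rw [hc]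
      rcases Nat.even_or_odd u with h | h
      · exact ⟨1, by decide, h.two_dvd⟩
      · exact ⟨2, by decide, h.add_one.two_dvd⟩
    obtain ⟨j, hj0, hj⟩ := h2c
    exact merge (i := 0) (j := j) (Ne.symm hj0) hp.out Nat.prime_two (dvd_rfl : p ∣ cls F p 0) hj hconn

end

end Cfsg.Agent.H514.OC.Psl2
end

-- part: H514/OrdRows
section
/-!
# Rows of the classification for the number of components and the special element orders
-/

set_option autoImplicit false
set_option linter.style.haveILetI false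

namespace Cfsg.Agent.H514.OC.Rows

open Cfsg.Agent.H493.PG Cfsg.Agent.H493.PGRows Subgroup Cfsg.Agent.H514.OC Cfsg Cfsg.Agent
open Cfsg.Agent.H514.OC.Spor (ge_of_subset of_dvd mem_four mem_eight two_le_of_eight eight_equiv mem_ot_of_three)

universe u

/-- the two good cases -/
def Good (K : Type u) [Group K] : Prop := Few 4 K ∨ Few (3 + (OtS K).ncard) K

theorem good_of {K : Type u} [Group K] {n m : ℕ} (h : Few n K) (hm : m ≤ (OtS K).ncard) (hn : n ≤ 3 + m) : Good K :=
  Or.inr (OC.Few.mono h (by omega))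

theorem good_of_le {K : Type u} [Group K] {n : ℕ} (h : Few n K) (hn : n ≤ 4) : Good K :=
  Or.inl (OC.Few.mono h hn)

/-! ### Sporadic groups -/

open H94.PG.Sp in
theorem sporadic {K : Type u} [Group K] [Finite K] (h : IsSporadicGroup K) (hJ : ¬ Cfsg.Spor.IsoJ1 K) : Good K := by
  rcases h with h | h | h | h | h | h | h | h | h | h | h | h | h | h | h | h | h | h | h | h | h | h | h | h | h | h
  · exact good_of_le (few_nr (n := 4) [5, 11] (NotCT.Orders.m11 h) (fun r hr hd hR => nr_m11' h hr hd hR) (by simp)) le_rfl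
  · exact good_of_le (few_nr (n := 4) [11] (NotCT.Orders.m12 h) (fun r hr hd hR => nr_m12' h hr hd hR) (by simp)) le_rfl
  · refine good_of (m := 2) (few_nr (n := 5) [5, 7, 11] (NotCT.Orders.m22 h) (fun r hr hd hR => nr_m22' h hr hd hR) (by simp))
      (two_le_of_eight ?_) le_rfl
    obtain ⟨e⟩ := h
    obtain ⟨g, hg⟩ := Spor.m22_eight
    exact eight_equiv e ⟨g, by rw [hg]⟩
  · refine good_of_le (n := 4) (few_of_list [11, 23] (by simp) fun r hr hd hR => ?_) le_rfl
    by_cases h5 : r = 5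
    · subst h5; exact conn_of (conn_five_m23 h)
    · exact conn_of ((nr_m23' h hr (NotCT.Orders.m23 h ▸ hd) (by simpa [h5] using hR)).conn)
  · exact good_of_le (few_nr (n := 4) [11, 23] (NotCT.Orders.m24 h) (fun r hr hd hR => nr_m24' h hr hd hR) (by simp)) le_rfl
  · exact absurd h hJ
  · exact good_of_le (few_nr (n := 4) [7] (NotCT.Orders.j2 h) (fun r hr hd hR => nr_j2 h hr hd hR) (by simp)) le_rfl
  · exact good_of_le (few_nr (n := 4) [17, 19] (NotCT.Orders.j3 h) (fun r hr hd hR => nr_j3 h hr hd hR) (by simp)) le_rfl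
  · refine good_of (m := 4) (few_nr (n := 7) [23, 29, 31, 37, 43] (NotCT.Orders.j4 h)
      (fun r hr hd hR => nr_j4 h hr hd hR) (by simp)) ?_ le_rfl
    obtain ⟨⟨g, hg⟩, h3⟩ := Spor.j4_facts h
    have := ge_of_subset (K := K) {8, 2 * 3 * 5, 2 * 3 * 7, 2 * 3 * 11} (by
      intro n hn
      simp only [Finset.mem_insert, Finset.mem_singleton] at hn
      rcases hn with rfl | rfl | rfl | rfl
      · exact mem_eight hg
      · exact mem_ot_of_three (by norm_num) (by norm_num) (by norm_num) (h3 5 (by norm_num))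
      · exact mem_ot_of_three (by norm_num) (by norm_num) (by norm_num) (h3 7 (by norm_num))
      · exact mem_ot_of_three (by norm_num) (by norm_num) (by norm_num) (h3 11 (by norm_num)))
    simpa only [_root_.ge_iff_le, _root_.Nat.reduceMul, _root_.Finset.mem_insert, _root_.Nat.reduceEqDiff, _root_.Finset.mem_singleton, _root_.or_self, _root_.not_false_eq_true, _root_.Finset.card_insert_of_notMem, _root_.Finset.card_singleton, _root_.Nat.reduceAdd] using this
  · exact good_of_le (few_nr (n := 4) [23] (NotCT.Orders.co1 h) (fun r hr hd hR => nr_co1 h hr hd hR) (by simp)) le_rfl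
  · exact good_of_le (few_nr (n := 4) [11, 23] (NotCT.Orders.co2 h) (fun r hr hd hR => nr_co2 h hr hd hR) (by simp)) le_rfl
  · exact good_of_le (few_nr (n := 4) [23] (NotCT.Orders.co3 h) (fun r hr hd hR => nr_co3 h hr hd hR) (by simp)) le_rfl
  · exact good_of_le (few_nr (n := 4) [11] (NotCT.Orders.mcl h) (fun r hr hd hR => nr_mcl h hr hd hR) (by simp)) le_rfl
  · exact good_of_le (few_nr (n := 4) [7, 11] (NotCT.Orders.hs h) (fun r hr hd hR => nr_hs h hr hd hR) (by simp)) le_rfl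
  · exact good_of_le (few_nr (n := 4) [11, 13] (NotCT.Orders.suz h) (fun r hr hd hR => nr_suz h hr hd hR) (by simp)) le_rfl
  · exact good_of_le (few_nr (n := 4) [17] (NotCT.Orders.he h) (fun r hr hd hR => nr_he h hr hd hR) (by simp)) le_rfl
  · exact good_of_le (few_nr (n := 4) [29] (NotCT.Orders.ru h) (fun r hr hd hR => nr_ru h hr hd hR) (by simp)) le_rfl
  · refine good_of (m := 2) (few_nr (n := 5) [11, 19, 31] (NotCT.Orders.on h) (fun r hr hd hR => nr_on h hr hd hR) (by simp))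
      (two_le_of_eight ?_) le_rfl
    obtain ⟨e⟩ := h
    obtain ⟨g, hg⟩ := Spor.on_eight
    exact eight_equiv e ⟨g, by rw [hg]⟩
  · refine good_of (m := 2) (few_nr (n := 5) [31, 37, 67] (NotCT.Orders.ly h) (fun r hr hd hR => nr_ly h hr hd hR) (by simp))
      (two_le_of_eight ?_) le_rfl
    obtain ⟨e⟩ := h
    exact eight_equiv e Spor.ly_eight
  · exact good_of_le (few_nr (n := 4) [13] (NotCT.Orders.fi22 h) (fun r hr hd hR => nr_fi22 h hr hd hR) (by simp)) le_rfl
  · exact good_of_le (few_nr (n := 4) [17, 23] (NotCT.Orders.fi23 h) (fun r hr hd hR => nr_fi23 h hr hd hR) (by simp)) le_rfl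
  · refine good_of (m := 2) (few_nr (n := 5) [17, 23, 29] (NotCT.Orders.fi24 h) (fun r hr hd hR => nr_fi24 h hr hd hR) (by simp))
      (two_le_of_eight ?_) le_rfl
    obtain ⟨e⟩ := h
    exact eight_equiv e Spor.fi24_eight
  · exact good_of_le (few_nr (n := 4) [19] (NotCT.Orders.hn h) (fun r hr hd hR => nr_hn h hr hd hR) (by simp)) le_rfl
  · refine good_of (m := 2) (few_nr (n := 5) [13, 19, 31] (NotCT.Orders.th h) (fun r hr hd hR => nr_th h hr hd hR) (by simp))
      ?_ le_rfl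
    obtain ⟨e⟩ := h
    obtain ⟨g, hg⟩ := eight_equiv e Spor.th_facts.1
    obtain ⟨g', hg'⟩ := eight_equiv e Spor.th_facts.2
    have := ge_of_subset (K := K) {4, 2 * 3 * 5} (by
      intro n hn
      simp only [Finset.mem_insert, Finset.mem_singleton] at hn
      rcases hn with rfl | rfl
      · exact mem_four hg
      · exact mem_ot_of_three (by norm_num) (by norm_num) (by norm_num) (of_dvd hg'))
    simpa using this
  · exact good_of_le (few_nr (n := 4) [31, 47] (NotCT.Orders.b h) (fun r hr hd hR => nr_b h hr hd hR) (by simp)) le_rfl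
  · refine good_of (m := 3) (few_nr (n := 6) [29, 41, 59, 71] (NotCT.Orders.m h) (fun r hr hd hR => nr_m h hr hd hR) (by simp))
      ?_ le_rfl
    obtain ⟨e⟩ := h
    obtain ⟨h1, h2, h3⟩ := Spor.m_facts
    have := ge_of_subset (K := K) {2 * 2 * 3, 2 * 3 * 5, 2 * 3 * 7} (by
      intro n hn
      simp only [Finset.mem_insert, Finset.mem_singleton] at hn
      rcases hn with rfl | rfl | rfl
      · exact mem_ot_of_three (by norm_num) (by norm_num) (by norm_num) (Exc.of_equiv e h1)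
      · exact mem_ot_of_three (by norm_num) (by norm_num) (by norm_num) (Exc.of_equiv e h2)
      · exact mem_ot_of_three (by norm_num) (by norm_num) (by norm_num) (Exc.of_equiv e h3))
    simpa using this

/-! ### Exceptional groups -/

theorem three_le {K : Type u} [Group K] [Finite K] (h8 : ∃ x : K, orderOf x = 8)
    (h : (∃ x : K, orderOf x = 12) ∨ ∃ x : K, orderOf x = 16) : 3 ≤ (OtS K).ncard := by
  obtain ⟨g, hg⟩ := h8
  have h1 : 4 ∈ OtS K := mem_four (g := g) (by rw [hg]; norm_num)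
  have h2 : 8 ∈ OtS K := mem_eight (g := g) (by rw [hg])
  rcases h with h | h
  · have h3 : 2 * 2 * 3 ∈ OtS K := mem_ot_of_three (by norm_num) (by norm_num) (by norm_num) h
    have := ge_of_subset (K := K) {4, 8, 2 * 2 * 3} (by
      intro n hn
      simp only [Finset.mem_insert, Finset.mem_singleton] at hn
      rcases hn with rfl | rfl | rfl <;> assumption)
    simpa only [_root_.ge_iff_le, _root_.Nat.reduceMul, _root_.Finset.mem_insert, _root_.Nat.reduceEqDiff, _root_.Finset.mem_singleton, _root_.or_self, _root_.not_false_eq_true, _root_.Finset.card_insert_of_notMem, _root_.Finset.card_singleton, _root_.Nat.reduceAdd] using this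
  · have h3 : 4 * 2 * 2 ∈ OtS K := mem_ot_of_three (by norm_num) (by norm_num) (by norm_num) h
    have := ge_of_subset (K := K) {4, 8, 4 * 2 * 2} (by
      intro n hn
      simp only [Finset.mem_insert, Finset.mem_singleton] at hn
      rcases hn with rfl | rfl | rfl <;> assumption)
    simpa using this

theorem exceptional {K : Type u} [Group K] [Finite K] (h : IsExceptionalLieType K) :
    Cfsg.Lie.IsoSuzuki K ∨ Good K := by
  rcases h with h | h | h | h | h | h | h | h | h | h | h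
  · exact Or.inr (good_of_le (few_isoChevG2 h) le_rfl)
  · exact Or.inr (good_of_le (few_isoF4 h) le_rfl)
  · exact Or.inr (good_of_le (few_isoE6 h) (by norm_num))
  · exact Or.inr (good_of_le (few_isoE7 h) le_rfl)
  · exact Or.inr (good_of (few_isoE8 h) (three_le (H374.EightExc.E8 h) (Exc.E8 h)) (by norm_num))
  · exact Or.inr (good_of (H493.PGE6T.few_iso2E6 h) (three_le (H374.EightExc.twE6 h) (Exc.twE6 h)) (by norm_num))
  · exact Or.inr (good_of_le (H493.PGD4T.few_iso3D4 h) (by norm_num))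
  · exact Or.inl h
  · exact Or.inr (good_of_le (few_isoRee h) le_rfl)
  · exact Or.inr (good_of_le (H493.PGF4T.few_iso2F4 h) le_rfl)
  · exact Or.inr (good_of_le (few_tits h) (by norm_num))

/-! ### Alternating groups -/

theorem conn_alt_three {n r : ℕ} (hr : r.Prime) (hr2 : r ≠ 2) (hr3 : r ≠ 3) (hn : r + 3 ≤ n) :
    Conn (alternatingGroup (Fin n)) r 3 := by
  have hodd : Odd r := hr.odd_of_ne_two hr2
  obtain ⟨g, hg⟩ := (Equiv.Perm.exists_with_cycleType_iff (Fin n) (m := {r, 3})).2 ⟨by simp only [_root_.Multiset.insert_eq_cons, _root_.Multiset.sum_cons, _root_.Multiset.sum_singleton, _root_.Fintype.card_fin]; omega, by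
    intro a ha
    simp only [Multiset.insert_eq_cons, Multiset.mem_cons, Multiset.mem_singleton] at ha
    rcases ha with rfl | rfl
    · exact hr.two_le
    · norm_num⟩
  have hs : g ∈ alternatingGroup (Fin n) := by
    rw [Equiv.Perm.mem_alternatingGroup, Equiv.Perm.sign_of_cycleType, hg]
    obtain ⟨k, rfl⟩ := hodd
    simp only [Multiset.insert_eq_cons, Multiset.sum_cons, Multiset.sum_singleton, Multiset.card_cons,
      Multiset.card_singleton]
    exact Even.neg_one_pow ⟨k + 3, by ring⟩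
  have ho : orderOf g = Nat.lcm r 3 := by
    rw [← Equiv.Perm.lcm_cycleType, hg]
    simp only [Multiset.insert_eq_cons, Multiset.lcm_cons, Multiset.lcm_singleton]
    simp
    rfl
  have ho' : orderOf (⟨g, hs⟩ : alternatingGroup (Fin n)) = Nat.lcm r 3 := by rw [Subgroup.orderOf_mk, ho]
  exact conn_of_dvd_orderOf (g := ⟨g, hs⟩) hr Nat.prime_three (ho' ▸ Nat.dvd_lcm_left _ _) (ho' ▸ Nat.dvd_lcm_right _ _)

theorem alt {n : ℕ} (hn : 7 ≤ n) : Few 4 (alternatingGroup (Fin n)) := by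
  have key : ∀ r, r.Prime → r ∣ Nat.card (alternatingGroup (Fin n)) → r + 3 ≤ n → Conn (alternatingGroup (Fin n)) r 2 := by
    intro r hr hd hrn
    by_cases hr2 : r = 2
    · rw [hr2]
      exact Conn.refl _
    · by_cases hr3 : r = 3
      · rw [hr3]
        exact conn_alt Nat.prime_three (by norm_num) (by omega)
      · exact (conn_alt_three hr hr2 hr3 hrn).trans (conn_alt Nat.prime_three (by norm_num) (by omega))
  have hle : ∀ r, r.Prime → r ∣ Nat.card (alternatingGroup (Fin n)) → r ≤ n := by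
    intro r hr hd
    have h1 : r ∣ n.factorial := by
      have h2 : Nat.card (alternatingGroup (Fin n)) ∣ Nat.card (Equiv.Perm (Fin n)) :=
        Subgroup.card_subgroup_dvd_card _
      rw [Nat.card_eq_fintype_card (α := Equiv.Perm (Fin n)), Fintype.card_perm, Fintype.card_fin] at h2
      exact hd.trans h2
    exact (Nat.Prime.dvd_factorial hr).1 h1
  rcases Nat.even_or_odd n with he | ho
  · refine few_of_list [n - 1] (by simp) fun r hr hd hR => ?_
    simp only [List.mem_cons, List.not_mem_nil, or_false] at hR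
    have h3 := hle r hr hd
    by_cases hr2 : r = 2
    · rw [hr2]
      exact Conn.refl _
    have hodd : Odd r := hr.odd_of_ne_two hr2
    refine key r hr hd ?_
    obtain ⟨a, ha⟩ := he
    obtain ⟨b, hb⟩ := hodd
    (clear * - hR h3 ha hb; omega)
  · refine few_of_list [n, n - 2] (by simp) fun r hr hd hR => ?_
    simp only [List.mem_cons, List.not_mem_nil, or_false, not_or] at hR
    have h3 := hle r hr hd
    by_cases hr2 : r = 2
    · rw [hr2]
      exact Conn.refl _
    have hodd : Odd r := hr.odd_of_ne_two hr2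
    refine key r hr hd ?_
    obtain ⟨a, ha⟩ := ho
    obtain ⟨b, hb⟩ := hodd
    (clear * - hn hR h3 ha hb; omega)

/-! ### The list -/

/-- the four families which are not `Good` -/
def Bad (K : Type u) [Group K] : Prop :=
  (∃ (F : Type) (_ : Field F) (_ : Fintype F), 4 ≤ Fintype.card F ∧
    Nonempty (K ≃* Matrix.ProjectiveSpecialLinearGroup (Fin 2) F)) ∨ Cfsg.Lie.IsoSuzuki K ∨
  (∃ (F : Type) (_ : Field F) (_ : Fintype F), Fintype.card F = 4 ∧
    Nonempty (K ≃* Matrix.ProjectiveSpecialLinearGroup (Fin 3) F)) ∨ Cfsg.Spor.IsoJ1 K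

theorem psl {K : Type u} [Group K] (h : IsPSL K) : Bad K ∨ Good K := by
  obtain ⟨F, i1, i2, n, hn, h4, ⟨e⟩⟩ := h
  rcases Nat.lt_or_ge n 3 with h3 | h3
  · obtain rfl : n = 2 := by omega
    exact Or.inl (Or.inl ⟨F, i1, i2, h4 rfl, ⟨e⟩⟩)
  · by_cases hex : n = 3 ∧ (Nat.card F = 2 ∨ Nat.card F = 4)
    · obtain ⟨rfl, hex | hex⟩ := hex
      · left; left
        haveI : Fact (Nat.Prime 7) := ⟨by norm_num⟩
        obtain ⟨f⟩ := S0255.result (F := ZMod 7) (K := F) (ZMod.card 7) (by rw [← Nat.card_eq_fintype_card]; exact hex)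
        exact ⟨ZMod 7, inferInstance, inferInstance, by rw [ZMod.card]; norm_num, ⟨e.trans f.symm⟩⟩
      · left; right; right; left
        exact ⟨F, i1, i2, by rw [← Nat.card_eq_fintype_card]; exact hex, ⟨e⟩⟩
    · right
      refine good_of_le (n := 3) (Few.congr e.symm (few_of_two le_rfl fun r s hr hs hr2 hs2 hrd hsd => ?_)) (by norm_num)
      rcases H371.Psl.three h3 hr hs hr2 hs2 hrd hsd with h | h | h | h
      · exact Or.inl (conn_of h)
      · exact Or.inr (Or.inl (conn_of h))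
      · exact Or.inr (Or.inr (conn_of h))
      · exact absurd h hex

theorem bad_or_good {K : Type u} [Group K] [Finite K] [IsSimpleGroup K] (hna : ¬ IsMulCommutative K)
    (hK : IsKnownSimple' K) : Bad K ∨ Good K := by
  rcases hK with h | h | h | h | h | h | h | h | h | h
  · exfalso
    haveI : Fact (Nat.Prime (Nat.card K)) := ⟨h⟩
    haveI : IsCyclic K := isCyclic_of_prime_card (p := Nat.card K) rfl
    apply hna
    letI : CommGroup K := IsCyclic.commGroup
    exact ⟨⟨fun a b => mul_comm a b⟩⟩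
  · obtain ⟨n, hn, ⟨e⟩⟩ := h
    rcases (show n = 5 ∨ n = 6 ∨ 7 ≤ n by omega) with rfl | rfl | h7
    · left; left
      let _ : Fintype (GaloisField 2 2) := Fintype.ofFinite _
      have hF : Fintype.card (GaloisField 2 2) = 4 := by
        rw [Fintype.card_eq_nat_card, GaloisField.card 2 2 (by norm_num)]; norm_num
      obtain ⟨f⟩ := S0252.result hF
      exact ⟨GaloisField 2 2, inferInstance, inferInstance, hF.ge, ⟨e.trans f.symm⟩⟩
    · left; left
      let _ : Fintype (GaloisField 3 2) := Fintype.ofFinite _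
      have hF : Fintype.card (GaloisField 3 2) = 9 := by
        rw [Fintype.card_eq_nat_card, GaloisField.card 3 2 (by norm_num)]; norm_num
      obtain ⟨f⟩ := S0254.result hF
      exact ⟨GaloisField 3 2, inferInstance, inferInstance, by rw [hF]; norm_num, ⟨e.trans f.symm⟩⟩
    · exact Or.inr (good_of_le (Few.congr e.symm (alt h7)) le_rfl)
  · exact psl h
  · exact Or.inr (good_of_le (few_psp h) (by norm_num))
  · exact Or.inr (good_of_le (few_psu h) le_rfl)
  · exact Or.inr (good_of_le (few_omegaOdd h) (by norm_num))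
  · exact Or.inr (good_of_le (few_omegaPlus h) (by norm_num))
  · exact Or.inr (good_of_le (few_omegaMinus h) le_rfl)
  · rcases exceptional h with h | h
    · exact Or.inl (Or.inr (Or.inl h))
    · exact Or.inr h
  · by_cases hJ : Cfsg.Spor.IsoJ1 K
    · exact Or.inl (Or.inr (Or.inr (Or.inr hJ)))
    · exact Or.inr (sporadic h hJ)

theorem ree_ot {K : Type u} [Group K] (h : Cfsg.Lie.IsoRee K) : 9 ∈ OtS K := by
  obtain ⟨F, i1, i2, m, hm, hF, ⟨e⟩⟩ := h
  obtain ⟨g, hg⟩ := (S1159.result hm hF 9).2 (Or.inr (Or.inl dvd_rfl))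
  exact Spor.mem_ot_sq Nat.prime_three ⟨e.symm g, by rw [MulEquiv.orderOf_eq, hg]⟩

/-- **Outside the four families there are few components.** -/
theorem bad_or_few {K : Type u} [Group K] [Finite K] [IsSimpleGroup K] (hna : ¬ IsMulCommutative K)
    (hK : IsKnownSimple' K) (hE : ∃ E : Subgroup K, IsKleinFour E) : Bad K ∨ Few (3 + (OtS K).ncard) K := by
  rcases bad_or_good hna hK with h | h | h
  · exact Or.inl h
  · rcases Nat.eq_zero_or_pos (OtS K).ncard with h0 | h0
    · left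
      have hot : OtS K = ∅ := (Set.ncard_eq_zero finite_OtS).1 h0
      rcases simple_of_ot inferInstance hna hot hE with ⟨F, i1, i2, n, h1, h2, ⟨f⟩⟩ | h | h |
          ⟨F, i1, i2, r, b, h1, h2, h3, h4, ⟨f⟩⟩
      · left
        refine ⟨F, i1, i2, ?_, ?_⟩
        · rw [h2]
          calc 4 = 2 ^ 2 := by norm_num
            _ ≤ 2 ^ n := Nat.pow_le_pow_right (by norm_num) h1
        · have h0 : (2 : F) = 0 := by
            have h3 : ((Fintype.card F : ℕ) : F) = 0 := Nat.cast_card_eq_zero F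
            rw [h2] at h3
            push_cast at h3
            exact pow_eq_zero_iff (by omega) |>.1 h3
          haveI : CharP F 2 := CharTwo.of_one_ne_zero_of_two_eq_zero one_ne_zero h0
          obtain ⟨g⟩ := H803.RankOneFacts.nonempty_psl_equiv (F := F)
          exact ⟨f.trans g⟩
      · have := ree_ot h
        rw [hot] at this
        exact absurd this (Set.notMem_empty _)
      · exact Or.inr (Or.inr (Or.inr h))
      · exact Or.inl ⟨F, i1, i2, by rw [h2]; omega, ⟨f⟩⟩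
    · exact Or.inr (OC.Few.mono h (by omega))
  · exact Or.inr h

end Cfsg.Agent.H514.OC.Rows
end

-- part: H514/OrdMain
section
/-!
# The number of prime orders is at most the number of composite orders plus three
-/

set_option autoImplicit false
set_option linter.style.haveILetI false

namespace Cfsg.Agent.H514.OC.Main

open Cfsg.Agent.H493.PG Subgroup Cfsg.Agent.H514.OC Cfsg Cfsg.Agent Cfsg.Agent.H514.OC.Rows

universe u

theorem odd (K : Type u) [Group K] [Finite K] (h : ¬ Even (Nat.card K)) : Group.IsSolvable K :=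
  S0205.result (Nat.not_even_iff_odd.1 h)

theorem four (K : Type u) [Group K] [Finite K] [IsSimpleGroup K] (hna : ¬ IsMulCommutative K) :
    ∃ E : Subgroup K, IsKleinFour E := by
  refine S0204.result fun hc => hna ?_
  letI : CommGroup K := IsCyclic.commGroup
  exact ⟨⟨fun a b => mul_comm a b⟩⟩

theorem inv_of_known (known : ∀ (K : Type u) [Group K] [Finite K] [IsSimpleGroup K], IsKnownSimple' K) (K : Type u) [Group K] [Finite K] [IsSimpleGroup K] (hna : ¬ IsMulCommutative K)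
    (r : ℕ) (hr : r.Prime) (hr2 : r ≠ 2) (hd : ¬ r ∣ Nat.card K) (x : MulAut K) (hx : x ^ r = 1) :
    ∃ g : K, orderOf g = 2 ∧ x g = g :=
  H388.EvenFixAll.exists_involution hna (known K) hr hr2 hd x hx

section

variable (known : ∀ (K : Type u) [Group K] [Finite K] [IsSimpleGroup K], IsKnownSimple' K)

include known in
theorem rows {K : Type u} [Group K] [Finite K] [IsSimpleGroup K] (hna : ¬ IsMulCommutative K) :
    Bad K ∨ Few (3 + (OtS K).ncard) K := bad_or_few hna (known K) (four K hna)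

/-- the forest bound -/
theorem lt_of_few {K : Type u} [Group K] [Finite K] {n : ℕ} (h : Few n K) :
    (PrS K).ncard + (OtS K).ncard < (CoS K).ncard + n := by
  obtain ⟨R, h1, h2, h3⟩ := exists_coclique (G := K)
  by_contra hcon
  exact not_few_of_finset h1 h3 (OC.Few.mono h (by omega))

theorem ot_pos {K : Type u} [Group K] [Finite K] {n : ℕ} (h : n ∈ OtS K) : 1 ≤ (OtS K).ncard := by
  rw [Nat.one_le_iff_ne_zero, ne_eq, Set.ncard_eq_zero finite_OtS]
  exact Set.nonempty_iff_ne_empty.1 ⟨n, h⟩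

include known in
theorem le (K : Type u) [Group K] [Finite K] [IsSimpleGroup K] (hna : ¬ IsMulCommutative K) :
    (PrS K).ncard ≤ (CoS K).ncard + 3 := by
  rcases rows known hna with (⟨F, i1, i2, h4, ⟨e⟩⟩ | h | ⟨F, i1, i2, h4, ⟨e⟩⟩ | h) | h
  · obtain ⟨p, hp⟩ := CharP.exists F
    haveI : Fact p.Prime := ⟨CharP.char_is_prime F p⟩
    have := lt_of_few (Psl2.few_four p h4 e)
    omega
  · have h1 := lt_of_few (few_isoSuzuki h)
    have h2 := ot_pos (Sz.four_mem h)
    omega
  · have h1 := lt_of_few (L34.few_five h4 e)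
    have h2 := ot_pos (L34.ot_four h4 e)
    omega
  · exact J1.le h
  · have := lt_of_few h
    omega

include known in
theorem mod (K : Type u) [Group K] [Finite K] [IsSimpleGroup K] (hna : ¬ IsMulCommutative K) (hG : Ge3 K) :
    ModOK.{u, u} K := by
  rcases rows known hna with (⟨F, i1, i2, h4, ⟨e⟩⟩ | h | ⟨F, i1, i2, h4, ⟨e⟩⟩ | h) | h
  · obtain ⟨p, hp⟩ := CharP.exists F
    haveI : Fact p.Prime := ⟨CharP.char_is_prime F p⟩
    have h1 := lt_of_few (Psl2.few_four p h4 e)
    have h2 : (OtS K).ncard = 0 := by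
      unfold Ge3 at hG
      omega
    exact Psl2.modOK p h4 hna e ((Set.ncard_eq_zero finite_OtS).1 h2)
  · exact Sz.modOK h
  · exact L34.modOK h4 e
  · exact J1.modOK hna h
  · exact absurd h (OC.not_few hG)

include known in
theorem alm (G : Type u) [Group G] [Finite G] (S : Subgroup G) [S.Normal] (hS : IsSimpleGroup S)
    (hSna : ¬ IsMulCommutative S) (hC : centralizer (S : Set G) = ⊥) (htop : S ≠ ⊤) (hG : Ge3 G) : False := by
  have hnf := OC.not_few hG
  have hev : Even (Nat.card S) := by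
    by_contra hcon
    have h1 := odd S hcon
    exact hSna ⟨⟨(IsSimpleGroup.comm_iff_isSolvable (G := S)).2 h1⟩⟩
  have hsub : OtS S ⊆ OtS G := OtS_subset_of_injective S.subtype S.subtype_injective
  have hcard : (OtS S).ncard ≤ (OtS G).ncard := Set.ncard_le_ncard hsub finite_OtS
  have hnS : ¬ Few (3 + (OtS G).ncard) S := not_few_socle (inv_of_known known) _ (by omega) G S hS hSna hev hnf
  rcases rows known (K := S) hSna with (⟨F, i1, i2, h4, ⟨e⟩⟩ | h | ⟨F, i1, i2, h4, ⟨e⟩⟩ | h) | h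
  · obtain ⟨p, hp⟩ := CharP.exists F
    haveI : Fact p.Prime := ⟨CharP.char_is_prime F p⟩
    have h0 : (OtS G).ncard = 0 := by
      by_contra hne
      exact hnS (OC.Few.mono (Psl2.few_four p h4 e) (by omega))
    exact Psl2.almost_false (inv_of_known known) p h4 S hS hSna hC htop e ((Set.ncard_eq_zero finite_OtS).1 h0)
      (fun hf => hnf (OC.Few.mono hf (by omega))) (four S hSna)
  · have h1 := ot_pos (Sz.four_mem h)
    exact Sz.almost_false (inv_of_known known) S hS hSna htop h (fun hf => hnf (OC.Few.mono hf (by omega)))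
  · have h1 := ot_pos (L34.ot_four h4 e)
    exact L34.almost_false (inv_of_known known) h4 S hS hSna htop e (fun hf => hnf (OC.Few.mono hf (by omega)))
  · exact htop (J1.eq_top S hC h)
  · exact hnS (OC.Few.mono h (by omega))

/-- **Main theorem.** -/
theorem main
    (known : ∀ (K : Type u) [Group K] [Finite K] [IsSimpleGroup K], IsKnownSimple' K)
    (has : ∀ (G : Type u) [Group G] [Finite G] (_ : ¬ Group.IsSolvable G) (_ : Even (Nat.card G))
      (r : ℕ) (_ : r.Prime) (_ : r ≠ 2) (_ : r ∣ Nat.card G) (_ : ∀ g : G, orderOf g ≠ 2 * r)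
      (R : Subgroup G) [R.Normal] (_ : Group.IsSolvable ↥R)
      (_ : ∀ N : Subgroup G, N.Normal → Group.IsSolvable ↥N → N ≤ R),
      ∃ S : Subgroup (G ⧸ R), S.Normal ∧ IsSimpleGroup ↥S ∧ ¬ IsMulCommutative ↥S ∧
        Subgroup.centralizer (S : Set (G ⧸ R)) = ⊥)
    (G : Type u) [Group G] [Finite G] (hG : Ge3 G) :
    IsSimpleGroup G ∧ (PrS G).ncard = (CoS G).ncard + 3 :=
  OC.main odd four (mod known) has (le known) (alm known) G hG

end

end Cfsg.Agent.H514.OC.Main
end
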